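import Cfsg.Agent.Thompson.Offender.Structure
import Cfsg.Agent.Thompson.Stable
import Cfsg.Agent.Layer.PConstraint
import Cfsg.Agent.S0601
import Mathlib.GroupTheory.SemidirectProduct

/-!
Failure of factorization: the setting `FF` coming from a normal elementary abelian subgroup.
-/

set_option autoImplicit false

namespace Cfsg.Agent.Offender

open Subgroup
open scoped commutatorElement

variable {L : Type*} [Group L]

/-- The holomorph of `V`. -/
abbrev Hol (V : Subgroup L) := V ⋊[MonoidHom.id (MulAut V)] MulAut V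

instance (V : Subgroup L) [Finite L] : Finite (Hol V) := Finite.of_equiv _ SemidirectProduct.equivProd.symm

/-- The action of `L` on its normal subgroup `V`, inside the holomorph. -/
def act (V : Subgroup L) [V.Normal] : L →* Hol V := SemidirectProduct.inr.comp MulAut.conjNormal

/-- A subgroup of `V` inside the holomorph. -/
def emb (V U : Subgroup L) : Subgroup (Hol V) := (U.subgroupOf V).map SemidirectProduct.inl

variable {V : Subgroup L} [V.Normal]

theorem act_conj (g : L) (v : V) :
    act V g * SemidirectProduct.inl v * (act V g)⁻¹ =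
      SemidirectProduct.inl ⟨g * (v : L) * g⁻¹, Subgroup.Normal.conj_mem ‹_› _ v.2 g⟩ := by
  rw [act, MonoidHom.comp_apply, ← map_inv, ← SemidirectProduct.inl_aut]
  congr 1

theorem act_ker : (act V).ker = centralizer (V : Set L) := by
  ext g
  rw [MonoidHom.mem_ker, mem_centralizer_iff, act, MonoidHom.comp_apply,
    ← map_one (SemidirectProduct.inr : MulAut V →* Hol V), SemidirectProduct.inr_inj]
  constructor
  · intro h v hv
    have := congrArg Subtype.val (DFunLike.congr_fun h ⟨v, hv⟩)
    rw [MulAut.conjNormal_apply] at this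
    exact (mul_inv_eq_iff_eq_mul.1 this).symm
  · intro h
    refine MulEquiv.ext fun v => Subtype.ext ?_
    rw [MulAut.conjNormal_apply]
    simp [← h v v.2]

theorem card_emb {U : Subgroup L} (h : U ≤ V) : Nat.card (emb V U) = Nat.card U := by
  rw [emb, card_map_of_injective SemidirectProduct.inl_injective,
    Nat.card_congr (subgroupOfEquivOfLe h).toEquiv]

omit [V.Normal] in
theorem inl_mem_emb {U : Subgroup L} {v : V} :
    (SemidirectProduct.inl v : Hol V) ∈ emb V U ↔ (v : L) ∈ U := by
  refine ⟨?_, fun h => ⟨v, h, rfl⟩⟩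
  rintro ⟨w, hw, he⟩
  rwa [← SemidirectProduct.inl_injective he]

theorem emb_ea {p : ℕ} (hV : Cfsg.IsElementaryAbelian p V) :
    Cfsg.IsElementaryAbelian p (emb V V) := by
  refine Thompson.ea_map (Thompson.ea_iff.2 ⟨fun a _ => ?_, fun a _ => ?_⟩) _
  · rw [mem_centralizer_iff]
    exact fun b _ => Subtype.ext (mem_centralizer_iff.1 ((Thompson.ea_iff.1 hV).1 a.2) b b.2)
  · exact Subtype.ext ((Thompson.ea_iff.1 hV).2 a a.2)

theorem act_le_normalizer : (act V).range ≤ normalizer (emb V V : Set (Hol V)) := by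
  refine le_normalizer_iff_commutator_le_left.2 ?_
  rw [commutator_le]
  rintro - ⟨v, -, rfl⟩ - ⟨g, rfl⟩
  rw [commutatorElement_def, mul_assoc (SemidirectProduct.inl v), mul_assoc (SemidirectProduct.inl v),
    ← map_inv SemidirectProduct.inl, act_conj, ← map_mul, inl_mem_emb]
  exact SetLike.coe_mem _

theorem fix_act (A : Subgroup L) :
    emb V V ⊓ centralizer (A.map (act V) : Set (Hol V)) = emb V (V ⊓ centralizer (A : Set L)) := by
  ext z
  constructor
  · rintro ⟨⟨v, -, rfl⟩, hc⟩
    refine inl_mem_emb.2 ⟨v.2, mem_centralizer_iff.2 fun a ha => ?_⟩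
    have h1 := mem_centralizer_iff.1 hc (act V a) ⟨a, ha, rfl⟩
    have h2 := act_conj a v
    rw [h1, mul_inv_cancel_right] at h2
    exact (mul_inv_eq_iff_eq_mul.1 (congrArg Subtype.val (SemidirectProduct.inl_injective h2)).symm)
  · rintro ⟨v, hv, rfl⟩
    refine ⟨inl_mem_emb.2 v.2, mem_centralizer_iff.2 ?_⟩
    rintro - ⟨a, ha, rfl⟩
    refine mul_inv_eq_iff_eq_mul.1 ((act_conj a v).trans ?_)
    exact congrArg _ (Subtype.ext (mul_inv_eq_iff_eq_mul.2 (mem_centralizer_iff.1 hv.2 a ha)))

theorem card_map_act_mul [Finite L] (A : Subgroup L) :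
    Nat.card (A.map (act V)) * Nat.card (A ⊓ centralizer (V : Set L) : Subgroup L) = Nat.card A := by
  rw [← MonoidHom.restrict_range, ← index_ker, MonoidHom.ker_restrict, act_ker,
    ← inf_subgroupOf_left, ← Nat.card_congr (subgroupOfEquivOfLe (inf_le_left :
      A ⊓ centralizer (V : Set L) ≤ A)).toEquiv, index_mul_card]

section PSolvable

variable {p : ℕ} [Fact p.Prime] [Finite L]

omit [V.Normal] in
theorem isPSolvable_subgroup (h : Cfsg.IsPSolvable p L) (K : Subgroup L) :
    Cfsg.IsPSolvable p ↥K := by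
  obtain ⟨n, S, h0, hl, hm, hn, hi⟩ := h
  refine ⟨n, fun i => (S i).subgroupOf K, by simp [h0], by simp [hl],
    fun a b hab => comap_mono (hm hab), fun i => (hn i).subgroupOf K, fun i => ?_⟩
  have hd : ((S i.castSucc).subgroupOf K).relIndex ((S i.succ).subgroupOf K) ∣
      (S i.castSucc).relIndex (S i.succ) := by
    rw [subgroupOf, relIndex_comap, subgroupOf_map_subtype]
    haveI := hn i.castSucc
    exact Layer.relIndex_dvd_relIndex_of_le inf_le_left
  rcases hi i with ⟨m, hm'⟩ | hc
  · obtain ⟨j, -, hj⟩ := (Nat.dvd_prime_pow Fact.out).1 (hm' ▸ hd)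
    exact Or.inl ⟨j, hj⟩
  · exact Or.inr (hc.coprime_dvd_left hd)

omit [V.Normal] in
/-- The dual of Hall-Higman 1.2.3. -/
theorem centralizer_pPrimeCore_le {M : Type*} [Group M] [Finite M] (h : Cfsg.IsPSolvable p M)
    (hO : Cfsg.pCore p M = ⊥) :
    centralizer (Cfsg.pPrimeCore p M : Set M) ≤ Cfsg.pPrimeCore p M := by
  obtain ⟨n, S, h0, hl, hm, hn, hi⟩ := h
  set C := centralizer (Cfsg.pPrimeCore p M : Set M) with hC
  haveI hCn : C.Normal := by rw [hC]; infer_instance
  suffices hs : ∀ i : Fin (n + 1), S i ⊓ C ≤ Cfsg.pPrimeCore p M by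
    have := hs (Fin.last n)
    rwa [hl, top_inf_eq] at this
  intro i
  induction i using Fin.induction with
  | zero => simp [h0]
  | succ i ih =>
    set A := S i.castSucc ⊓ C with hA
    set B := S i.succ ⊓ C with hB
    have hAB : A ≤ B := inf_le_inf_right _ (hm i.castSucc_le_succ)
    haveI := hn i.castSucc
    haveI := hn i.succ
    have hdvd : A.relIndex B ∣ (S i.castSucc).relIndex (S i.succ) := by
      have : A.relIndex B = (S i.castSucc).relIndex B := by
        rw [← Subgroup.inf_relIndex_right (S i.castSucc) B]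
        congr 1
        rw [hA, hB, ← inf_assoc, inf_eq_left.mpr (hm i.castSucc_le_succ)]
      rw [this]
      exact Layer.relIndex_dvd_relIndex_of_le inf_le_left
    have hcard : Nat.card B = A.relIndex B * Nat.card A := by
      rw [Subgroup.relIndex, ← Nat.card_congr (subgroupOfEquivOfLe hAB).toEquiv]
      exact (Subgroup.index_mul_card _).symm
    have hAp : (Nat.card A).Coprime p :=
      Nat.Coprime.coprime_dvd_left (card_dvd_of_le ih) Core.coprime_card_pPrimeCore
    rcases hi i with ⟨m, hm'⟩ | hc
    · obtain ⟨j, -, hj⟩ := (Nat.dvd_prime_pow (Fact.out : p.Prime)).mp (hm' ▸ hdvd)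
      haveI : (A.subgroupOf B).Normal := inferInstance
      obtain ⟨K, hK⟩ := Subgroup.exists_right_complement'_of_coprime (N := A.subgroupOf B) (by
        rw [Nat.card_congr (subgroupOfEquivOfLe hAB).toEquiv]
        rw [show (A.subgroupOf B).index = p ^ j from hj]
        exact hAp.pow_right j)
      have hKcard : Nat.card K = p ^ j := by rw [← hj]; exact hK.symm.index_eq_card.symm
      have hcen : A.subgroupOf B ≤ centralizer (K : Set ↥B) := by
        intro a' ha'
        rw [mem_centralizer_iff]
        intro k _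
        exact Subtype.ext (mem_centralizer_iff.mp k.2.2 (a' : M) (ih ha')).symm
      have hKn : K.Normal := by
        rw [← normalizer_eq_top_iff, eq_top_iff, ← hK.sup_eq_top]
        exact sup_le (hcen.trans (centralizer_le_normalizer _)) le_normalizer
      have hKbot : K.map B.subtype = ⊥ := by
        refine le_bot_iff.mp (le_trans ?_ hO.le)
        refine Layer.subnormal_le_pCore (hKn.isSubnormal.trans'
          (Subgroup.Normal.isSubnormal inferInstance)) ?_
        exact (IsPGroup.of_card hKcard).map _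
      have hA' : A.subgroupOf B = ⊤ := by
        have := hK.sup_eq_top
        rwa [(Subgroup.map_eq_bot_iff_of_injective _ B.subtype_injective).mp hKbot, sup_bot_eq] at this
      exact (subgroupOf_eq_top.mp hA').trans ih
    · refine Core.le_pPrimeCore ?_
      rw [hcard]
      exact (hc.coprime_dvd_left hdvd).mul_left hAp

omit [V.Normal] in
theorem pCore_range_eq_bot {M : Type*} [Group M] (f : L →* M) [hK : f.ker.Normal]
    (h : Cfsg.pCore p (L ⧸ f.ker) = ⊥) : Cfsg.pCore p f.range = ⊥ := by
  rw [← Core.map_pCore (QuotientGroup.quotientKerEquivRange f), h, Subgroup.map_bot]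

omit [V.Normal] in
theorem pCore_quotient_eq_bot {C : Subgroup L} [C.Normal]
    (h : ∀ D : Subgroup L, D.Normal → C ≤ D → (∃ k : ℕ, C.relIndex D = p ^ k) → D = C) :
    Cfsg.pCore p (L ⧸ C) = ⊥ := by
  set D := (Cfsg.pCore p (L ⧸ C)).comap (QuotientGroup.mk' C) with hD
  have hDn : D.Normal := by rw [hD]; infer_instance
  have hCD : C ≤ D := (QuotientGroup.ker_mk' C).ge.trans (ker_le_comap _ _)
  obtain ⟨k, hk⟩ := IsPGroup.iff_card.1 (Core.pCore_isPGroup (p := p) (G := L ⧸ C))
  have hrel : C.relIndex D = p ^ k := by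
    have h1 := Subgroup.relIndex_ker (QuotientGroup.mk' C) (K := D)
    rw [QuotientGroup.ker_mk', hD, map_comap_eq_self_of_surjective (QuotientGroup.mk'_surjective C)] at h1
    rw [hD, h1, hk]
  have := h D hDn hCD ⟨k, hrel⟩
  rw [← le_bot_iff, ← map_comap_eq_self_of_surjective (QuotientGroup.mk'_surjective C)
    (Cfsg.pCore p (L ⧸ C)), ← hD, this]
  exact ((Subgroup.map_eq_bot_iff _).2 (QuotientGroup.ker_mk' C).ge).le

/-- The closure of the `Ω₁(Z(S))` of a Sylow subgroup is characteristic. -/
theorem omegaClosure_characteristic (M : Type*) [Group M] [Finite M] :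
    (⨆ S : Sylow p M, Cfsg.omegaOne p ((S : Subgroup M) ⊓
      centralizer ((S : Subgroup M) : Set M))).Characteristic := by
  rw [characteristic_iff_map_le]
  intro φ
  rw [Subgroup.map_iSup]
  refine iSup_le fun S => ?_
  rw [Thompson.omegaOne_map_of_injective φ.injective, Thompson.map_centre_of_injective φ.injective]
  let T : Sylow p M := S.comapOfInjective φ.symm.toMonoidHom φ.symm.injective (fun x _ => ⟨φ x, φ.symm_apply_apply x⟩)
  have hT : (T : Subgroup M) = (S : Subgroup M).map φ.toMonoidHom :=
    (map_equiv_eq_comap_symm φ (S : Subgroup M)).symm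
  rw [← hT]
  exact le_iSup (fun S : Sylow p M => Cfsg.omegaOne p ((S : Subgroup M) ⊓
    centralizer ((S : Subgroup M) : Set M))) T

/-- `J(K)` acting on `V` satisfies the hypotheses of the structure theorem. -/
theorem ff_of_thompson {K : Subgroup L} [K.Normal] (hsep : Cfsg.IsPSolvable p ↥K) (hVK : V ≤ K)
    (hV : Cfsg.IsElementaryAbelian p V) (hO : Cfsg.pCore p (K.map (act V)) = ⊥) :
    FF p (emb V V) ((Cfsg.thompsonSubgroupOf p K).map (act V)) := by
  set J := Cfsg.thompsonSubgroupOf p K with hJ
  set σ := act V with hσ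
  have hVn : (V.subgroupOf K).Normal := ‹V.Normal›.subgroupOf K
  have hA : ∀ A ∈ Cfsg.maxElementaryAbelianSubgroups p ↥K,
      Cfsg.IsBestOffenderOn p (emb V V) ((A.map K.subtype).map σ) := by
    intro A hA
    have hoff := Cfsg.Agent.S0606.result (V.subgroupOf K)
      ((Thompson.ea_map_iff K.subtype_injective).1 (by
        rw [subgroupOf_map_subtype, inf_eq_left.2 hVK]; exact hV)) A hA
    set A' := A.map K.subtype with hA'
    have hea : Cfsg.IsElementaryAbelian p (A'.map σ) := Thompson.ea_map (Thompson.ea_map hA.1 _) _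
    refine ⟨fun B hB => ?_, ?_, fun a ha => ?_⟩
    · set B₀ := A' ⊓ B.comap σ with hB₀
      have hmap : B₀.map σ = B := by
        refine le_antisymm (map_le_iff_le_comap.2 inf_le_right) fun b hb => ?_
        obtain ⟨a, ha, rfl⟩ := hB hb
        exact ⟨a, ⟨ha, hb⟩, rfl⟩
      have hker : B₀ ⊓ centralizer (V : Set L) = A' ⊓ centralizer (V : Set L) := by
        refine le_antisymm (inf_le_inf_right _ inf_le_left) ?_
        rintro x ⟨hx, hxc⟩
        refine ⟨⟨hx, ?_⟩, hxc⟩
        show σ x ∈ B
        rw [show σ x = 1 from MonoidHom.mem_ker.1 ((act_ker (V := V)).ge hxc)]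
        exact one_mem _
      have hB₀K : B₀ ≤ K := inf_le_left.trans (map_subtype_le A)
      have key := hoff.1 (B₀.subgroupOf K) (fun x hx => by
        obtain ⟨y, hy, he⟩ := (show (x : L) ∈ A' from hx.1)
        rwa [← Subtype.ext he])
      rw [Nat.card_congr (subgroupOfEquivOfLe hB₀K).toEquiv] at key
      have hfix : ∀ X : Subgroup L, ∀ Y : Subgroup K, X = Y.map K.subtype →
          Nat.card (V.subgroupOf K ⊓ centralizer (Y : Set K) : Subgroup K) =
            Nat.card (V ⊓ centralizer (X : Set L) : Subgroup L) := by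
        rintro X Y rfl
        rw [← card_map_of_injective K.subtype_injective]
        refine congrArg (fun S : Subgroup L => Nat.card S) ?_
        ext z
        constructor
        · rintro ⟨w, ⟨hwV, hwc⟩, rfl⟩
          refine ⟨hwV, mem_centralizer_iff.2 ?_⟩
          rintro - ⟨y, hy, rfl⟩
          exact congrArg Subtype.val (mem_centralizer_iff.1 hwc y hy)
        · rintro ⟨hzV, hzc⟩
          exact ⟨⟨z, hVK hzV⟩, ⟨hzV, mem_centralizer_iff.2 fun y hy =>
            Subtype.ext (mem_centralizer_iff.1 hzc _ ⟨y, hy, rfl⟩)⟩, rfl⟩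
      rw [hfix B₀ _ (by rw [subgroupOf_map_subtype, inf_eq_left.2 hB₀K]), hfix A' A rfl,
        Nat.card_congr (A.equivMapOfInjective K.subtype K.subtype_injective).toEquiv] at key
      rw [← hA', ← card_map_act_mul (V := V) B₀, ← card_map_act_mul (V := V) A', hker, hmap] at key
      rw [← hmap, fix_act, fix_act, card_emb inf_le_left, card_emb inf_le_left, hmap]
      refine Nat.le_of_mul_le_mul_right ?_ (Nat.card_pos (α := (A' ⊓ centralizer (V : Set L) : Subgroup L)))
      linarith
    · rw [commutator_eq_bot_iff_le_centralizer.2 (Thompson.ea_iff.1 hea).1]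
      exact bot_le
    · rw [(Thompson.ea_iff.1 hea).2 a ha]
      exact one_mem _
  have hJH : J.map σ ≤ K.map σ := map_mono (map_subtype_le _)
  have hJn : J.Normal := by
    have := Thompson.thompson_characteristic p ↥K
    exact ConjAct.normal_of_characteristic_of_normal
  refine ⟨emb_ea hV, (map_le_range σ J).trans act_le_normalizer, ?_, ?_, ?_⟩
  · rw [eq_bot_iff]
    rintro x ⟨⟨g, hg, rfl⟩, hc⟩
    refine mem_bot.2 (MonoidHom.mem_ker.1 ?_)
    rw [hσ, act_ker, mem_centralizer_iff]
    intro v hv
    have h1 := mem_centralizer_iff.1 hc _ (inl_mem_emb (v := ⟨v, hv⟩).2 hv)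
    have h2 := act_conj g ⟨v, hv⟩
    rw [← hσ, ← h1, mul_inv_cancel_right] at h2
    exact (mul_inv_eq_iff_eq_mul.1
      (congrArg Subtype.val (SemidirectProduct.inl_injective h2)).symm).symm
  · have hsepK : Cfsg.IsPSolvable p (K.map σ) :=
      Layer.isPSolvable_of_surjective hsep (σ.subgroupMap_surjective K)
    have hn : ((J.map σ).subgroupOf (K.map σ)).Normal := by
      refine normal_subgroupOf_of_le_normalizer ?_
      rintro - ⟨k, -, rfl⟩
      exact le_normalizer_map σ ⟨k, by rw [normalizer_eq_top]; exact mem_top _, rfl⟩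
    refine centralizer_pPrimeCore_le
      (Layer.isPSolvable_of_surjective (isPSolvable_subgroup hsepK ((J.map σ).subgroupOf (K.map σ)))
        (f := (subgroupOfEquivOfLe hJH).toMonoidHom) (MulEquiv.surjective _)) ?_
    rw [← Core.map_pCore (subgroupOfEquivOfLe hJH), Subgroup.map_eq_bot_iff_of_injective _ (subgroupOfEquivOfLe hJH).injective,
      ← Subgroup.map_eq_bot_iff_of_injective _ ((J.map σ).subgroupOf (K.map σ)).subtype_injective,
      ← le_bot_iff, ← hO]
    refine Layer.subnormal_le_pCore (Subgroup.Normal.isSubnormal inferInstance |>.trans'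
      (Subgroup.Normal.isSubnormal hn)) (Core.pCore_isPGroup.map _)
  · refine le_antisymm ?_ (iSup_le fun A => A.2.1)
    rw [map_le_iff_le_comap, hJ, Cfsg.thompsonSubgroupOf, map_le_iff_le_comap]
    refine sSup_le fun A hA' => ?_
    rw [← map_le_iff_le_comap, ← map_le_iff_le_comap]
    exact le_iSup_of_le (⟨(A.map K.subtype).map σ,
      map_mono (map_mono (Thompson.le_thompson hA')), hA A hA'⟩ :
      {A : Subgroup (Hol V) // A ≤ J.map σ ∧ Cfsg.IsBestOffenderOn p (emb V V) A}) le_rfl

end PSolvable

end Cfsg.Agent.Offender
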