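import Cfsg.Prelude.Def_PLocal
import Cfsg.Agent.Thompson.Basic
import Cfsg.Agent.S0606
import Cfsg.Agent.Coprime.Generation
import Cfsg.Agent.Coprime.Tools
import Cfsg.Agent.Core.PCore
import Mathlib.Tactic.Group

/-!
Failure of factorization: the bound `|A| |C_V(A)| ≤ |V|` and lines (offenders of order `p`).
-/

set_option autoImplicit false

namespace Cfsg.Agent.Offender

open Subgroup
open scoped commutatorElement

variable {G : Type*} [Group G]

/-- The hypotheses of the failure of factorization structure theorem. -/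
structure FF (p : ℕ) (V H : Subgroup G) : Prop where
  hV : Cfsg.IsElementaryAbelian p V
  hHV : H ≤ normalizer (V : Set G)
  hf : H ⊓ centralizer (V : Set G) = ⊥
  hS1 : centralizer (Cfsg.pPrimeCore p ↥H : Set ↥H) ≤ Cfsg.pPrimeCore p ↥H
  hS3 : H = ⨆ A : {A : Subgroup G // A ≤ H ∧ Cfsg.IsBestOffenderOn p V A}, (A : Subgroup G)

/-- The `p'`-core of `H` inside `G`. -/
abbrev core (p : ℕ) (H : Subgroup G) : Subgroup G := (Cfsg.pPrimeCore p ↥H).map H.subtype

/-- Conjugation of a subgroup. -/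
abbrev cj (x : G) (A : Subgroup G) : Subgroup G := A.map (MulAut.conj x).toMonoidHom

/-- An offender of order `p` whose fixed points have index `p`. -/
structure IsLine (p : ℕ) (V H A : Subgroup G) : Prop where
  le : A ≤ H
  card_eq : Nat.card A = p
  card_fix : Nat.card (V ⊓ centralizer (A : Set G) : Subgroup G) * p = Nat.card V

/-- The elements which normalise `U` and are trivial on `V` modulo `U`. -/
def stab (V U : Subgroup G) : Subgroup G where
  carrier := {x | x ∈ normalizer (U : Set G) ∧ ∀ v ∈ V, ⁅v, x⁆ ∈ U}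
  one_mem' := ⟨one_mem _, fun v _ => by simp [one_mem]⟩
  mul_mem' := by
    rintro x y ⟨hx, hx'⟩ ⟨hy, hy'⟩
    refine ⟨mul_mem hx hy, fun v hv => ?_⟩
    have h : ⁅v, x * y⁆ = ⁅v, x⁆ * (x * ⁅v, y⁆ * x⁻¹) := by
      simp only [commutatorElement_def]; group
    rw [h]
    exact mul_mem (hx' v hv) ((mem_normalizer_iff.1 hx _).1 (hy' v hv))
  inv_mem' := by
    rintro x ⟨hx, hx'⟩
    refine ⟨inv_mem hx, fun v hv => ?_⟩
    have h : ⁅v, x⁻¹⁆ = x⁻¹ * ⁅v, x⁆⁻¹ * x⁻¹⁻¹ := by
      simp only [commutatorElement_def]; group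
    rw [h]
    exact (mem_normalizer_iff.1 (inv_mem hx) _).1 (inv_mem (hx' v hv))

theorem le_stab_iff {V U X : Subgroup G} :
    X ≤ stab V U ↔ X ≤ normalizer (U : Set G) ∧ ⁅V, X⁆ ≤ U := by
  rw [commutator_le]
  exact ⟨fun h => ⟨fun x hx => (h hx).1, fun v hv x hx => (h hx).2 v hv⟩,
    fun h x hx => ⟨h.1 hx, fun v hv => h.2 v hv x hx⟩⟩

theorem mem_cj {x y : G} {A : Subgroup G} : y ∈ cj x A ↔ x⁻¹ * y * x ∈ A := by
  constructor
  · rintro ⟨a, ha, rfl⟩; simpa [mul_assoc] using ha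
  · intro h; exact ⟨_, h, by simp [mul_assoc]⟩

theorem cj_mono {x : G} {A B : Subgroup G} (h : A ≤ B) : cj x A ≤ cj x B := map_mono h

theorem cj_eq_self {x : G} {A : Subgroup G} (h : x ∈ normalizer (A : Set G)) : cj x A = A := by
  ext y
  rw [mem_cj, (mem_normalizer_iff'' ).1 h y]

theorem cj_cj (x y : G) (A : Subgroup G) : cj x (cj y A) = cj (x * y) A := by
  ext z
  rw [mem_cj, mem_cj, mem_cj, mul_inv_rev]
  simp only [mul_assoc]

theorem cj_one (A : Subgroup G) : cj 1 A = A := by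
  ext z
  simp [mem_cj]

theorem cj_centralizer (x : G) (A : Subgroup G) :
    cj x (centralizer (A : Set G)) = centralizer (cj x A : Set G) := by
  ext y
  simp only [mem_cj, mem_centralizer_iff, SetLike.mem_coe]
  constructor
  · intro h z hz
    have := h _ hz
    exact mul_left_cancel (a := x⁻¹) (mul_right_cancel (b := x) (by simpa [mul_assoc] using this))
  · intro h a ha
    have := congrArg (fun t => x⁻¹ * t * x) (h (x * a * x⁻¹) (by simpa [mul_assoc] using ha))
    simpa [mul_assoc] using this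

theorem cj_fix {x : G} {V : Subgroup G} (hx : x ∈ normalizer (V : Set G)) (A : Subgroup G) :
    cj x (V ⊓ centralizer (A : Set G)) = V ⊓ centralizer (cj x A : Set G) := by
  rw [← cj_centralizer]
  refine (map_inf _ _ _ (MulAut.conj x).injective).trans ?_
  congr 1
  exact cj_eq_self hx

theorem cj_commutator {x : G} (A B : Subgroup G) : cj x ⁅A, B⁆ = ⁅cj x A, cj x B⁆ :=
  map_commutator _ _ _

theorem cj_commutator_left {x : G} {V : Subgroup G} (hx : x ∈ normalizer (V : Set G))
    (A : Subgroup G) : cj x ⁅V, A⁆ = ⁅V, cj x A⁆ := by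
  rw [cj_commutator, cj_eq_self hx]

theorem card_cj (x : G) (A : Subgroup G) : Nat.card (cj x A) = Nat.card A :=
  card_map_of_injective (MulAut.conj x).injective

theorem mem_centralizer_zpowers {a x : G} :
    x ∈ centralizer (zpowers a : Set G) ↔ a * x = x * a := by
  rw [mem_centralizer_iff]
  refine ⟨fun h => h a (mem_zpowers a), fun h y hy => ?_⟩
  obtain ⟨i, rfl⟩ := mem_zpowers_iff.1 hy
  exact (show Commute a x from h).zpow_left i

theorem exists_ne_one_of_ne_bot {K : Subgroup G} (h : K ≠ ⊥) : ∃ x ∈ K, x ≠ 1 :=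
  K.bot_or_exists_ne_one.resolve_left h

theorem zpowers_eq_of_card {p : ℕ} [Fact p.Prime] {A : Subgroup G} (h : Nat.card A = p)
    {a : G} (ha : a ∈ A) (ha1 : a ≠ 1) : zpowers a = A := by
  have : Finite A := Nat.finite_of_card_ne_zero (h ▸ (Fact.out : p.Prime).ne_zero)
  refine eq_of_le_of_card_ge (zpowers_le.2 ha) ?_
  rw [h, Nat.card_zpowers]
  exact (orderOf_eq_prime (by
    have := congrArg Subtype.val (pow_card_eq_one' (x := (⟨a, ha⟩ : A)))
    simpa [h] using this) ha1).ge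

theorem exists_gen {p : ℕ} [Fact p.Prime] {A : Subgroup G} (h : Nat.card A = p) :
    ∃ a, a ≠ 1 ∧ zpowers a = A := by
  obtain ⟨a, ha, ha1⟩ := exists_ne_one_of_ne_bot (K := A) (fun h0 => by
    rw [h0, card_bot] at h; exact (Fact.out : p.Prime).ne_one h.symm)
  exact ⟨a, ha1, zpowers_eq_of_card h ha ha1⟩

theorem inf_eq_bot_or_le {p : ℕ} [Fact p.Prime] {A : Subgroup G} (h : Nat.card A = p)
    (B : Subgroup G) : A ⊓ B = ⊥ ∨ A ≤ B := by
  by_cases h0 : A ⊓ B = ⊥
  · exact Or.inl h0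
  obtain ⟨a, ha, ha1⟩ := exists_ne_one_of_ne_bot h0
  right
  rw [← zpowers_eq_of_card h ha.1 ha1, zpowers_le]
  exact ha.2

variable [Finite G] {p : ℕ} [Fact p.Prime]

theorem mul_card_le_of_lt {C D : Subgroup G} (hD : IsPGroup p D) (h : C < D) :
    p * Nat.card C ≤ Nat.card D := by
  obtain ⟨n, hn⟩ := IsPGroup.iff_card.1 hD
  obtain ⟨m, hm⟩ := IsPGroup.iff_card.1 (hD.to_le h.le)
  have hlt : Nat.card C < Nat.card D := Core.card_lt_of_lt h
  rw [hm, hn] at hlt ⊢
  have := (Nat.pow_lt_pow_iff_right (Fact.out : p.Prime).one_lt).1 hlt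
  rw [← pow_succ']
  exact Nat.pow_le_pow_right (Fact.out : p.Prime).pos this

/-- The commutator map with a single element on an abelian subgroup. -/
theorem card_commutator_zpowers {V : Subgroup G} (hVc : V ≤ centralizer (V : Set G)) {a : G}
    (ha : a ∈ normalizer (V : Set G)) :
    Nat.card (⁅V, zpowers a⁆ : Subgroup G) *
      Nat.card (V ⊓ centralizer (zpowers a : Set G) : Subgroup G) = Nat.card V := by
  have hmemV : ∀ v ∈ V, ⁅v, a⁆ ∈ V := fun v hv => by
    rw [commutatorElement_def, mul_assoc v, mul_assoc v]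
    exact mul_mem hv ((mem_normalizer_iff.1 ha _).1 (inv_mem hv))
  let φ : V →* G :=
    MonoidHom.mk' (fun v => ⁅(v : G), a⁆) fun u v => by
      have h1 : ⁅(u : G) * v, a⁆ = u * ⁅(v : G), a⁆ * (u : G)⁻¹ * ⁅(u : G), a⁆ := by
        simp only [commutatorElement_def]; group
      have h2 := mem_centralizer_iff.1 (hVc u.2) _ (hmemV v v.2)
      have h3 := mem_centralizer_iff.1 (hVc (hmemV v v.2)) _ (hmemV u u.2)
      rw [coe_mul, h1, ← h2, mul_inv_cancel_right, ← h3]
  have hrange : ⁅V, zpowers a⁆ = φ.range := by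
    refine le_antisymm ?_ ?_
    · refine ((le_stab_iff (U := φ.range)).1 (zpowers_le.2 ⟨?_, fun v hv => ⟨⟨v, hv⟩, rfl⟩⟩)).2
      have hle : zpowers a ≤ normalizer (φ.range : Set G) := by
        rw [le_normalizer_iff_commutator_le_left, commutator_le]
        rintro - ⟨v, rfl⟩ x hx
        obtain ⟨i, rfl⟩ := mem_zpowers_iff.1 hx
        have hai : a ^ i ∈ normalizer (V : Set G) := zpow_mem ha i
        have h1 : (φ v)⁻¹ = φ v⁻¹ := (map_inv φ v).symm
        have h2 : a ^ i * φ v⁻¹ * (a ^ i)⁻¹ =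
            φ ⟨a ^ i * (v : G)⁻¹ * (a ^ i)⁻¹, (mem_normalizer_iff.1 hai _).1 (inv_mem v.2)⟩ := by
          simp only [φ, MonoidHom.mk'_apply, commutatorElement_def, coe_inv]
          group
        rw [commutatorElement_def, mul_assoc (φ v), mul_assoc (φ v), h1, h2]
        exact mul_mem ⟨v, rfl⟩ ⟨_, rfl⟩
      exact hle (mem_zpowers a)
    · rintro - ⟨v, rfl⟩
      exact commutator_mem_commutator v.2 (mem_zpowers a)
  have hker : φ.ker.map V.subtype = V ⊓ centralizer (zpowers a : Set G) := by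
    ext x
    constructor
    · rintro ⟨v, hv, rfl⟩
      exact ⟨v.2, mem_centralizer_zpowers.2 (commutatorElement_eq_one_iff_mul_comm.1 hv).symm⟩
    · rintro ⟨hxV, hxC⟩
      exact ⟨⟨x, hxV⟩,
        commutatorElement_eq_one_iff_mul_comm.2 (mem_centralizer_zpowers.1 hxC).symm, rfl⟩
  rw [hrange, ← hker, card_map_of_injective V.subtype_injective, ← index_ker, index_mul_card]

omit [Finite G] in
theorem cap_centralizer_of_le {V A B : Subgroup G} (h : B ≤ A) :
    V ⊓ centralizer (A : Set G) ≤ V ⊓ centralizer (B : Set G) :=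
  inf_le_inf_left _ (centralizer_le h)

namespace FF

variable {V H : Subgroup G} (h : FF p V H)
include h

omit [Finite G] [Fact p.Prime] in
theorem hVc : V ≤ centralizer (V : Set G) := (Thompson.ea_iff.1 h.hV).1

omit [Finite G] [Fact p.Prime] in
theorem hVp : IsPGroup p V := Thompson.ea_isPGroup h.hV

omit h [Finite G] [Fact p.Prime] in
theorem core_le : core p H ≤ H := map_subtype_le _

omit [Finite G] [Fact p.Prime] in
theorem core_le_normalizer : core p H ≤ normalizer (V : Set G) := core_le.trans h.hHV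

omit h [Fact p.Prime] in
theorem coprime_core : (Nat.card (core p H)).Coprime p := by
  rw [card_map_of_injective H.subtype_injective]
  exact Core.coprime_card_pPrimeCore

omit h [Finite G] [Fact p.Prime] in
theorem le_normalizer_core : H ≤ normalizer (core p H : Set G) := by
  have := le_normalizer_map (H := Cfsg.pPrimeCore p ↥H) H.subtype
  rwa [normalizer_eq_top, ← MonoidHom.range_eq_map, range_subtype] at this

omit h [Fact p.Prime] in
theorem inf_core_eq_bot {A : Subgroup G} (hA : IsPGroup p A) [Fact p.Prime] :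
    A ⊓ core p H = ⊥ := by
  refine inf_eq_bot_of_coprime ?_
  obtain ⟨n, hn⟩ := IsPGroup.iff_card.1 hA
  rw [hn]
  exact (coprime_core (H := H)).symm.pow_left n

omit [Finite G] [Fact p.Prime] in
theorem inf_centralizer_core_le : H ⊓ centralizer (core p H : Set G) ≤ core p H := by
  rintro x ⟨hx, hxc⟩
  refine ⟨⟨x, hx⟩, h.hS1 ?_, rfl⟩
  rw [mem_centralizer_iff]
  intro y hy
  exact Subtype.ext (mem_centralizer_iff.1 hxc _ ⟨y, hy, rfl⟩)

omit [Finite G] [Fact p.Prime] in
theorem eq_bot_of_le_centralizer {A : Subgroup G} (hA : A ≤ H) (hAV : A ≤ centralizer (V : Set G)) :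
    A = ⊥ := le_bot_iff.1 (h.hf ▸ le_inf hA hAV)

omit [Finite G] [Fact p.Prime] in
theorem eq_one_of_centralizes {x : G} (hx : x ∈ H) (hxV : x ∈ centralizer (V : Set G)) : x = 1 :=
  mem_bot.1 (h.hf ▸ ⟨hx, hxV⟩)

theorem inf_centralizer_core_eq_bot {A : Subgroup G} (hAH : A ≤ H) (hA : IsPGroup p A) :
    A ⊓ centralizer (core p H : Set G) = ⊥ := by
  rw [← le_bot_iff, ← inf_core_eq_bot (H := H) hA]
  exact le_inf inf_le_left ((inf_le_inf_right _ hAH).trans h.inf_centralizer_core_le)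

omit [Finite G] [Fact p.Prime] in
theorem commutator_ne_bot_iff {A : Subgroup G} (hAH : A ≤ H) : ⁅V, A⁆ ≠ ⊥ ↔ A ≠ ⊥ := by
  rw [not_iff_not, commutator_eq_bot_iff_le_centralizer, le_centralizer_iff]
  exact ⟨h.eq_bot_of_le_centralizer hAH, fun h0 => h0 ▸ bot_le⟩

omit [Finite G] [Fact p.Prime] in
theorem ea_of_offender {A : Subgroup G} (hAH : A ≤ H) (hA : Cfsg.IsBestOffenderOn p V A) :
    Cfsg.IsElementaryAbelian p A := by
  refine Thompson.ea_iff.2 ⟨?_, fun a ha =>
    h.eq_one_of_centralizes (pow_mem (hAH ha) p) (hA.2.2 a ha)⟩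
  rw [← commutator_eq_bot_iff_le_centralizer]
  exact h.eq_bot_of_le_centralizer ((commutator_le_self A).trans hAH) hA.2.1

/-- A hyperplane `B` avoiding `a` with more fixed points than `A`. -/
theorem exists_hyperplane {A : Subgroup G} (hAH : A ≤ H) (hA : Cfsg.IsElementaryAbelian p A)
    {a : G} (ha : a ∈ A) (ha1 : a ≠ 1) :
    ∃ B : Subgroup G, B ≤ A ∧ a ∉ B ∧ Nat.card A = p * Nat.card B ∧
      p * Nat.card (V ⊓ centralizer (A : Set G) : Subgroup G) ≤
        Nat.card (V ⊓ centralizer (B : Set G) : Subgroup G) := by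
  obtain ⟨hAc, hAp⟩ := Thompson.ea_iff.1 hA
  have hAP := Thompson.ea_isPGroup hA
  set Q := core p H with hQ
  have hAQ : A ≤ normalizer (Q : Set G) := hAH.trans le_normalizer_core
  have hcop : (Nat.card A).Coprime (Nat.card Q) := by
    obtain ⟨n, hn⟩ := IsPGroup.iff_card.1 hAP
    rw [hn]
    exact (coprime_core (H := H)).symm.pow_left n
  have : IsMulCommutative A := hA.1
  have haQ : ¬ Q ≤ centralizer (zpowers a : Set G) := fun hle => ha1 <| mem_bot.1 <| by
    rw [← h.inf_centralizer_core_eq_bot hAH hAP]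
    exact ⟨ha, le_centralizer_iff.1 hle (mem_zpowers a)⟩
  obtain ⟨B, hB, hBa⟩ : ∃ B ∈ Coprime.Cocyclic A,
      ¬ Q ⊓ centralizer (B : Set G) ≤ centralizer (zpowers a : Set G) := by
    by_contra! hall
    exact haQ ((Coprime.iSup_cocyclic_centralizer_eq hAQ hcop).ge.trans (iSup₂_le hall))
  obtain ⟨hBA, c, hc, hBc⟩ := hB
  have haB : a ∉ B := fun haB => hBa
    (inf_le_right.trans (centralizer_le (zpowers_le.2 haB)))
  have hlt : B < A := lt_of_le_of_ne hBA fun h0 => haB (h0 ▸ ha)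
  refine ⟨B, hBA, haB, le_antisymm ?_ (mul_card_le_of_lt hAP hlt), mul_card_le_of_lt
    (h.hVp.to_le inf_le_left) (lt_of_le_of_ne (cap_centralizer_of_le hBA) fun hUA => ?_)⟩
  · have hsup := S0606.card_sup_mul_card_inf_of_le_normalizer (H := zpowers c) (N := B)
      ((zpowers_le.2 hc).trans ((hAc.trans (centralizer_le hBA)).trans (centralizer_le_normalizer _)))
    rw [sup_comm, hBc] at hsup
    have h1 : Nat.card A ≤ Nat.card A * Nat.card (zpowers c ⊓ B : Subgroup G) :=
      Nat.le_mul_of_pos_right _ Nat.card_pos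
    refine h1.trans (hsup.le.trans (Nat.mul_le_mul_right _ ?_))
    rw [Nat.card_zpowers]
    exact orderOf_le_of_pow_eq_one (Fact.out : p.Prime).pos (hAp c hc)
  -- otherwise `B` would centralise too much of the core
  set U := V ⊓ centralizer (B : Set G) with hU
  set Q₀ := Q ⊓ centralizer (B : Set G) with hQ₀
  have hUA' : U ≤ centralizer (A : Set G) := hUA.ge.trans inf_le_right
  have hAB : A ≤ normalizer (B : Set G) :=
    (hAc.trans (centralizer_le hBA)).trans (centralizer_le_normalizer _)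
  have hAQ₀ : A ≤ normalizer (Q₀ : Set G) :=
    Coprime.le_normalizer_inf hAQ (Coprime.le_normalizer_centralizer hAB)
  have hQ₀B : Q₀ ≤ normalizer (B : Set G) := inf_le_right.trans (centralizer_le_normalizer _)
  have hQ₀U : Q₀ ≤ normalizer (U : Set G) :=
    Coprime.le_normalizer_inf (inf_le_left.trans h.core_le_normalizer)
      (Coprime.le_normalizer_centralizer hQ₀B)
  have hQ₁le : ⁅Q₀, A⁆ ≤ Q₀ := le_normalizer_iff_commutator_le_left.1 hAQ₀
  have hQ₁U : ⁅Q₀, A⁆ ≤ centralizer (U : Set G) := by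
    rw [commutator_le]
    intro q hq x hx
    have hxU : x ∈ centralizer (U : Set G) := le_centralizer_iff.1 hUA' hx
    rw [commutatorElement_def]
    exact mul_mem ((mem_normalizer_iff.1
      (Coprime.le_normalizer_centralizer hQ₀U hq) x).1 hxU) (inv_mem hxU)
  have hQ₁V : ⁅Q₀, A⁆ ≤ centralizer (V : Set G) :=
    Coprime.thompson_pxq (P := B) (hAP.to_le hBA)
      (Nat.Coprime.coprime_dvd_left (card_dvd_of_le (hQ₁le.trans inf_le_left)) coprime_core)
      h.hVp (le_centralizer_iff.1 (hQ₁le.trans inf_le_right)) ((hBA.trans hAH).trans h.hHV)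
      ((hQ₁le.trans inf_le_left).trans h.core_le_normalizer) (le_centralizer_iff.1 hQ₁U)
  have hQ₁ := h.eq_bot_of_le_centralizer ((hQ₁le.trans inf_le_left).trans core_le) hQ₁V
  rw [commutator_eq_bot_iff_le_centralizer] at hQ₁
  exact hBa (hQ₁.trans (centralizer_le (zpowers_le.2 ha)))

/-- The bound `|A| |C_V(A)| ≤ |V|`. -/
theorem bound {A : Subgroup G} (hAH : A ≤ H) (hA : Cfsg.IsElementaryAbelian p A) :
    Nat.card A * Nat.card (V ⊓ centralizer (A : Set G) : Subgroup G) ≤ Nat.card V := by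
  induction A using WellFoundedLT.induction with
  | _ A ih =>
  by_cases h0 : A = ⊥
  · subst h0
    rw [card_bot, one_mul]
    exact card_le_of_le inf_le_left
  obtain ⟨a, ha, ha1⟩ := exists_ne_one_of_ne_bot h0
  obtain ⟨B, hBA, haB, hcard, hfix⟩ := h.exists_hyperplane hAH hA ha ha1
  refine le_trans ?_ (ih B (lt_of_le_of_ne hBA fun h1 => haB (h1 ▸ ha)) (hBA.trans hAH)
    (Thompson.ea_mono hA hBA))
  rw [hcard, mul_comm p, mul_assoc]
  exact Nat.mul_le_mul_left _ hfix

theorem full_of_offender {A : Subgroup G} (hAH : A ≤ H) (hA : Cfsg.IsBestOffenderOn p V A) :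
    Nat.card A * Nat.card (V ⊓ centralizer (A : Set G) : Subgroup G) = Nat.card V := by
  refine le_antisymm (h.bound hAH (h.ea_of_offender hAH hA)) (le_trans ?_ (hA.1 ⊥ bot_le))
  rw [card_bot, one_mul]
  exact card_le_of_le (le_inf le_rfl fun v _ => by simp [mem_centralizer_iff])

theorem offender_of_full {A : Subgroup G} (hAH : A ≤ H) (hA : Cfsg.IsElementaryAbelian p A)
    (hF : Nat.card A * Nat.card (V ⊓ centralizer (A : Set G) : Subgroup G) = Nat.card V) :
    Cfsg.IsBestOffenderOn p V A := by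
  refine ⟨fun B hB => hF ▸ h.bound (hB.trans hAH) (Thompson.ea_mono hA hB), ?_, fun a ha => ?_⟩
  · rw [commutator_eq_bot_iff_le_centralizer.2 (Thompson.ea_iff.1 hA).1]
    exact bot_le
  · rw [(Thompson.ea_iff.1 hA).2 a ha]
    exact one_mem _

/-- A best offender has a hyperplane avoiding a given element which is a best offender too. -/
theorem exists_full_hyperplane {A : Subgroup G} (hAH : A ≤ H)
    (hA : Cfsg.IsBestOffenderOn p V A) {a : G} (ha : a ∈ A) (ha1 : a ≠ 1) :
    ∃ B : Subgroup G, B ≤ A ∧ a ∉ B ∧ Nat.card A = p * Nat.card B ∧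
      Cfsg.IsBestOffenderOn p V B := by
  have hea := h.ea_of_offender hAH hA
  obtain ⟨B, hBA, haB, hcard, hfix⟩ := h.exists_hyperplane hAH hea ha ha1
  refine ⟨B, hBA, haB, hcard, h.offender_of_full (hBA.trans hAH) (Thompson.ea_mono hea hBA)
    (le_antisymm (h.bound (hBA.trans hAH) (Thompson.ea_mono hea hBA)) ?_)⟩
  rw [← h.full_of_offender hAH hA, hcard, mul_comm p, mul_assoc]
  exact Nat.mul_le_mul_left _ hfix

end FF

namespace IsLine

variable {V H A : Subgroup G}

omit [Finite G] in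
theorem ea (hl : IsLine p V H A) : Cfsg.IsElementaryAbelian p A := by
  obtain ⟨a, -, rfl⟩ := exists_gen hl.card_eq
  refine Thompson.ea_zpowers ?_
  rw [← hl.card_eq, Nat.card_zpowers]
  exact pow_orderOf_eq_one a

omit [Finite G] [Fact p.Prime] in
theorem conj (hl : IsLine p V H A) {x : G} (hx : x ∈ H) (hxV : x ∈ normalizer (V : Set G)) :
    IsLine p V H (cj x A) :=
  ⟨(cj_mono hl.le).trans (cj_eq_self (le_normalizer hx)).le, (card_cj x A).trans hl.card_eq,
    by rw [← cj_fix hxV, card_cj, hl.card_fix]⟩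

variable (h : FF p V H)
include h

omit [Finite G] [Fact p.Prime] in
theorem le_normalizer_V (hl : IsLine p V H A) : A ≤ normalizer (V : Set G) := hl.le.trans h.hHV

theorem card_commutator (hl : IsLine p V H A) : Nat.card (⁅V, A⁆ : Subgroup G) = p := by
  obtain ⟨a, -, rfl⟩ := exists_gen hl.card_eq
  have := card_commutator_zpowers h.hVc (hl.le_normalizer_V h (mem_zpowers a))
  have hf := hl.card_fix
  rw [mul_comm] at hf
  exact Nat.eq_of_mul_eq_mul_right Nat.card_pos (this.trans hf.symm)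

omit [Finite G] [Fact p.Prime] in
theorem commutator_le_V (hl : IsLine p V H A) : ⁅V, A⁆ ≤ V :=
  le_normalizer_iff_commutator_le_left.1 (hl.le_normalizer_V h)

theorem commutator_le_centralizer (hl : IsLine p V H A) :
    ⁅V, A⁆ ≤ centralizer (A : Set G) := by
  have hP : IsPGroup p (⁅V, A⁆ : Subgroup G) := h.hVp.to_le (hl.commutator_le_V h)
  have hne : ⁅V, A⁆ ≠ ⊥ := fun h0 => by
    have := hl.card_commutator h
    rw [h0, card_bot] at this
    exact (Fact.out : p.Prime).ne_one this.symm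
  have hlt := Coprime.commutator_lt_of_isPGroup (Thompson.ea_isPGroup hl.ea) hP
    (normalizer_commutator_ge_right V A) hne
  rcases inf_eq_bot_or_le (hl.card_commutator h) ⁅⁅V, A⁆, A⁆ with h0 | h0
  · rw [inf_eq_right.2 hlt.le] at h0
    exact commutator_eq_bot_iff_le_centralizer.1 h0
  · exact absurd (le_antisymm hlt.le h0) hlt.ne

omit [Finite G] h in
theorem ne_bot (hl : IsLine p V H A) : A ≠ ⊥ := fun h0 => by
  have := hl.card_eq
  rw [h0, card_bot] at this
  exact (Fact.out : p.Prime).ne_one this.symm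

theorem offender (hl : IsLine p V H A) : Cfsg.IsBestOffenderOn p V A :=
  h.offender_of_full hl.le hl.ea (by rw [hl.card_eq, mul_comm, hl.card_fix])

omit [Finite G] h in
theorem minimal (hl : IsLine p V H A) (B : Subgroup G) (hB : B ≤ A) (hBV : ⁅V, B⁆ ≠ ⊥) :
    B = A := by
  rcases inf_eq_bot_or_le hl.card_eq B with h0 | h0
  · rw [inf_eq_right.2 hB] at h0
    exact absurd (by rw [h0, commutator_bot_right]) hBV
  · exact le_antisymm hB h0

/-- A line is determined by its commutator and its fixed points. -/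
theorem ext {B : Subgroup G} (hl : IsLine p V H A) (hm : IsLine p V H B)
    (hz : ⁅V, B⁆ = ⁅V, A⁆) (hc : V ⊓ centralizer (B : Set G) = V ⊓ centralizer (A : Set G)) :
    A = B := by
  obtain ⟨a, -, hza⟩ := exists_gen hl.card_eq
  obtain ⟨b, hb1, hzb⟩ := exists_gen hm.card_eq
  have haA : a ∈ A := hza ▸ mem_zpowers a
  have hbB : b ∈ B := hzb ▸ mem_zpowers b
  have hlt : V ⊓ centralizer (A : Set G) < V := lt_of_le_of_ne inf_le_left fun h0 => by
    have := hl.card_fix
    rw [h0] at this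
    exact (Fact.out : p.Prime).ne_one ((Nat.mul_eq_left Nat.card_pos.ne').1 this)
  obtain ⟨v, hvV, hv⟩ := SetLike.exists_of_lt hlt
  have hu : ⁅v, a⁆ ≠ 1 := fun h0 => hv ⟨hvV, by
    rw [← hza]
    exact mem_centralizer_zpowers.2 (commutatorElement_eq_one_iff_mul_comm.1 h0).symm⟩
  have hgen := zpowers_eq_of_card (hl.card_commutator h) (commutator_mem_commutator hvV haA) hu
  have hbz : ⁅v, b⁆ ∈ zpowers ⁅v, a⁆ := by
    rw [hgen, ← hz]
    exact commutator_mem_commutator hvV hbB
  obtain ⟨n, hn⟩ := mem_powers_iff_mem_zpowers.2 hbz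
  have hpow : ∀ k : ℕ, ⁅v, a ^ k⁆ = ⁅v, a⁆ ^ k := by
    intro k
    induction k with
    | zero => simp
    | succ k ih =>
      have h1 : ⁅v, a ^ (k + 1)⁆ = ⁅v, a⁆ * (a * ⁅v, a ^ k⁆ * a⁻¹) := by
        rw [pow_succ']; simp only [commutatorElement_def]; group
      have h2 := mem_centralizer_iff.1
        (hl.commutator_le_centralizer h (commutator_mem_commutator hvV haA)) a haA
      rw [h1, ih, ((show Commute a ⁅v, a⁆ from h2).pow_right k).eq, mul_inv_cancel_right,
        ← pow_succ']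
  have heq : ⁅v, a ^ n⁆ = ⁅v, b⁆ := (hpow n).trans hn
  have hconj : a ^ n * v⁻¹ * (a ^ n)⁻¹ = b * v⁻¹ * b⁻¹ := by
    simpa only [commutatorElement_def, mul_assoc, mul_right_inj] using heq
  set y := (a ^ n)⁻¹ * b with hy
  have hyv : v * y = y * v := by
    have h1 : y * v⁻¹ * y⁻¹ = v⁻¹ := by
      rw [hy, mul_inv_rev, inv_inv]
      calc (a ^ n)⁻¹ * b * v⁻¹ * (b⁻¹ * a ^ n) = (a ^ n)⁻¹ * (b * v⁻¹ * b⁻¹) * a ^ n := by group
        _ = v⁻¹ := by rw [← hconj]; group
    have h2 : Commute y v⁻¹ := by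
      show y * v⁻¹ = v⁻¹ * y
      calc y * v⁻¹ = (y * v⁻¹ * y⁻¹) * y := by group
        _ = v⁻¹ * y := by rw [h1]
    simpa using h2.inv_right.symm.eq
  have hyV : V ≤ centralizer (zpowers y : Set G) := by
    have hle : (V ⊓ centralizer (A : Set G)) ⊔ zpowers v ≤ centralizer (zpowers y : Set G) := by
      refine sup_le (fun w hw => mem_centralizer_zpowers.2 ?_)
        (zpowers_le.2 (mem_centralizer_zpowers.2 hyv.symm))
      have hwa : Commute (a ^ n) w :=
        (show Commute a w from mem_centralizer_iff.1 hw.2 a haA).pow_left n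
      have hwb : Commute b w := mem_centralizer_iff.1 (hc.ge hw).2 b hbB
      exact (hwa.inv_left.mul_left hwb).eq
    refine le_trans ?_ hle
    refine (eq_of_le_of_card_ge (sup_le inf_le_left (zpowers_le.2 hvV)) ?_).ge
    rw [← hl.card_fix, mul_comm]
    exact mul_card_le_of_lt (h.hVp.to_le (sup_le inf_le_left (zpowers_le.2 hvV)))
      (lt_of_le_of_ne le_sup_left fun h0 => hv (h0.ge (mem_sup_right (mem_zpowers v))))
  have hy1 := h.eq_one_of_centralizes
    (mul_mem (inv_mem (pow_mem (hl.le haA) n)) (hm.le hbB))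
    (le_centralizer_iff.1 hyV (mem_zpowers y))
  have hba : b = a ^ n := (inv_mul_eq_one.1 hy1).symm
  refine (eq_of_le_of_card_ge ?_ (by rw [hl.card_eq, hm.card_eq])).symm
  rw [← hzb, zpowers_le, hba]
  exact pow_mem haA n

end IsLine

namespace FF

variable {V H : Subgroup G} (h : FF p V H)
include h

theorem isLine_of_minimal {A : Subgroup G} (hAH : A ≤ H) (hA : Cfsg.IsBestOffenderOn p V A)
    (hAV : ⁅V, A⁆ ≠ ⊥)
    (hmin : ∀ B : Subgroup G, B ≤ A → Cfsg.IsBestOffenderOn p V B → ⁅V, B⁆ ≠ ⊥ → B = A) :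
    IsLine p V H A := by
  obtain ⟨a, ha, ha1⟩ := exists_ne_one_of_ne_bot ((h.commutator_ne_bot_iff hAH).1 hAV)
  obtain ⟨B, hBA, haB, hcard, hB⟩ := h.exists_full_hyperplane hAH hA ha ha1
  have hB0 : B = ⊥ := by
    by_contra h0
    exact haB ((hmin B hBA hB ((h.commutator_ne_bot_iff (hBA.trans hAH)).2 h0)).ge ha)
  rw [hB0, card_bot, mul_one] at hcard
  exact ⟨hAH, hcard, by rw [mul_comm]; exact hcard ▸ h.full_of_offender hAH hA⟩

/-- A best offender is the direct product of lines. -/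
theorem exists_lines {A : Subgroup G} (hAH : A ≤ H) (hA : Cfsg.IsBestOffenderOn p V A) :
    ∃ (k : ℕ) (B : Fin k → Subgroup G), (∀ i, B i ≤ A ∧ IsLine p V H (B i)) ∧
      iSupIndep B ∧ ⨆ i, B i = A := by
  induction A using WellFoundedLT.induction with
  | _ A ih =>
  by_cases h0 : A = ⊥
  · exact ⟨0, Fin.elim0, fun i => i.elim0, fun i => i.elim0, by rw [iSup_of_empty, h0]⟩
  obtain ⟨a, ha, ha1⟩ := exists_ne_one_of_ne_bot h0
  obtain ⟨B, hBA, haB, hcard, hB⟩ := h.exists_full_hyperplane hAH hA ha ha1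
  obtain ⟨k, L, hL, hind, hsup⟩ :=
    ih B (lt_of_le_of_ne hBA fun h1 => haB (h1 ▸ ha)) (hBA.trans hAH) hB
  obtain ⟨M, ⟨hMA, hM, hMB⟩, hMmin⟩ :
      ∃ M, Minimal (fun X => X ≤ A ∧ Cfsg.IsBestOffenderOn p V X ∧ ¬ X ≤ B) M :=
    exists_minimal_of_wellFoundedLT _ ⟨A, le_rfl, hA, fun hle => haB (hle ha)⟩
  have hMH := hMA.trans hAH
  have hMline : IsLine p V H M := by
    refine h.isLine_of_minimal hMH hM ((h.commutator_ne_bot_iff hMH).2
      fun h1 => hMB (h1 ▸ bot_le)) fun X hX hXo hXV => by_contra fun hne => ?_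
    have hXB : X ≤ B := by_contra fun hXB =>
      hne (le_antisymm hX (hMmin ⟨hX.trans hMA, hXo, hXB⟩ hX))
    obtain ⟨m, hm, hm1⟩ := exists_ne_one_of_ne_bot
      ((h.commutator_ne_bot_iff (hX.trans hMH)).1 hXV)
    obtain ⟨M', hM'M, hmM', hcardM, hM'⟩ := h.exists_full_hyperplane hMH hM (hX hm) hm1
    have hne' : M' ≠ M := fun h1 => hmM' (h1.ge (hX hm))
    have hM'B : M' ≤ B := by_contra fun hh =>
      hne' (le_antisymm hM'M (hMmin ⟨hM'M.trans hMA, hM', hh⟩ hM'M))
    have hMBlt : M ⊓ B < M := lt_of_le_of_ne inf_le_left fun h1 => hMB (inf_eq_left.1 h1)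
    have heq : M' = M ⊓ B := by
      refine eq_of_le_of_card_ge (le_inf hM'M hM'B) (Nat.le_of_mul_le_mul_left ?_
        (Fact.out : p.Prime).pos)
      rw [← hcardM]
      exact mul_card_le_of_lt (Thompson.ea_isPGroup (h.ea_of_offender hMH hM)) hMBlt
    exact hmM' (heq.ge ⟨hX hm, hXB hm⟩)
  have hMi : M ⊓ B = ⊥ := (inf_eq_bot_or_le hMline.card_eq B).resolve_right hMB
  have hAc := (Thompson.ea_iff.1 (h.ea_of_offender hAH hA)).1
  have hBnorm : B ≤ normalizer (M : Set G) :=
    ((hBA.trans hAc).trans (centralizer_le hMA)).trans (centralizer_le_normalizer _)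
  have hsupA : M ⊔ B = A := by
    refine eq_of_le_of_card_ge (sup_le hMA hBA) ?_
    have := S0606.card_sup_mul_card_inf_of_le_normalizer hBnorm
    rw [sup_comm, inf_comm, hMi, card_bot, mul_one, hMline.card_eq] at this
    rw [this, hcard, mul_comm]
  refine ⟨k + 1, Fin.cons M L, Fin.cases ⟨hMA, hMline⟩ fun i => ⟨(hL i).1.trans hBA, (hL i).2⟩,
    ?_, ?_⟩
  · rw [iSupIndep_def]
    refine Fin.cases ?_ fun i => ?_
    · rw [Fin.cons_zero, disjoint_iff, ← le_bot_iff, ← hMi]
      refine inf_le_inf_left _ (iSup₂_le fun j hj => ?_)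
      obtain ⟨i, rfl⟩ := Fin.exists_succ_eq_of_ne_zero hj
      rw [Fin.cons_succ, ← hsup]
      exact le_iSup L i
    · rw [Fin.cons_succ, disjoint_iff, ← le_bot_iff]
      rintro x ⟨hxL, hx⟩
      have hrest : (⨆ (j : Fin (k + 1)) (_ : j ≠ i.succ), Fin.cons (α := fun _ => Subgroup G) M L j) ≤
          M ⊔ ⨆ (l : Fin k) (_ : l ≠ i), L l := by
        refine iSup₂_le (Fin.cases (fun _ => by rw [Fin.cons_zero]; exact le_sup_left) fun l hl => ?_)
        rw [Fin.cons_succ]
        exact le_sup_of_le_right (le_iSup₂_of_le l (fun h1 => hl (h1 ▸ rfl)) le_rfl)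
      have hrB : (⨆ (l : Fin k) (_ : l ≠ i), L l) ≤ B :=
        hsup ▸ iSup₂_le fun l _ => le_iSup L l
      have hx' : x ∈ M ⊔ ⨆ (l : Fin k) (_ : l ≠ i), L l := hrest hx
      rw [← SetLike.mem_coe, Subgroup.coe_mul_of_right_le_normalizer_left M _
        (hrB.trans hBnorm)] at hx'
      obtain ⟨m, hm, r, hr, rfl⟩ := hx'
      change m * r ∈ _ at hxL
      change m * r ∈ _
      have hm1 : m = 1 := by
        rw [← mem_bot, ← hMi]
        exact ⟨hm, (B.mul_mem_cancel_right (hrB hr)).1 (hsup ▸ le_iSup L i hxL)⟩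
      subst hm1
      rw [one_mul] at hxL ⊢
      exact (iSupIndep_def.1 hind i).le_bot ⟨hxL, hr⟩
  · rw [← hsupA, ← hsup]
    refine le_antisymm (iSup_le (Fin.cases (by rw [Fin.cons_zero]; exact le_sup_left)
      fun i => by rw [Fin.cons_succ]; exact le_sup_of_le_right (le_iSup L i))) (sup_le ?_ ?_)
    · exact le_iSup_of_le 0 (Fin.cons_zero (α := fun _ => Subgroup G) M L).ge
    · exact iSup_le fun i => le_iSup_of_le i.succ (Fin.cons_succ (α := fun _ => Subgroup G) M L i).ge

end FF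

end Cfsg.Agent.Offender
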