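import Cfsg.Agent.Thompson.Offender.Basic
import Cfsg.Agent.Thompson.Replacement
import Cfsg.Agent.Layer.Subnormal

/-!
Subnormal subgroups with irreducible commutator modules generate their direct product.
-/

set_option autoImplicit false

namespace Cfsg.Agent.Offender

open Subgroup
open scoped commutatorElement

variable {G : Type*} [Group G] [Finite G] {p : ℕ} [Fact p.Prime]

/-- A subnormal subgroup of `E`, larger than of order two, irreducible on its commutator module. -/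
structure IrrPart (V E A : Subgroup G) : Prop where
  le : A ≤ E
  sn : (A.subgroupOf E).IsSubnormal
  card_gt : 2 < Nat.card A
  irr : ∀ U : Subgroup G, U ≤ ⁅V, A⁆ → A ≤ normalizer (U : Set G) → U = ⊥ ∨ U = ⁅V, A⁆

omit [Fact p.Prime] in
theorem cj_subgroupOf {E : Subgroup G} (g : E) (A : Subgroup G) :
    (A.subgroupOf E).map (MulAut.conj g).toMonoidHom = (cj (g : G) A).subgroupOf E := by
  ext x
  constructor
  · rintro ⟨a, ha, rfl⟩
    rw [mem_subgroupOf, mem_cj]
    simpa [mul_assoc, mem_subgroupOf] using ha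
  · intro hx
    rw [mem_subgroupOf, mem_cj] at hx
    exact ⟨g⁻¹ * x * g, hx, by simp [mul_assoc]⟩

omit [Fact p.Prime] in
theorem IrrPart.conj {V E A : Subgroup G} (hEV : E ≤ normalizer (V : Set G)) (h : IrrPart V E A)
    {g : G} (hg : g ∈ E) : IrrPart V E (cj g A) := by
  have hgE : ∀ {g : G}, g ∈ E → cj g A ≤ E := fun hg =>
    (cj_mono h.le).trans (cj_eq_self (le_normalizer hg)).le
  refine ⟨hgE hg, ?_, (card_cj g A).symm ▸ h.card_gt, fun U hU hAU => ?_⟩
  · rw [← cj_subgroupOf (⟨g, hg⟩ : E)]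
    exact Layer.isSubnormal_map_conj h.sn _
  · rw [← cj_commutator_left (hEV hg)] at hU ⊢
    have h1 : cj g⁻¹ U ≤ ⁅V, A⁆ := (cj_mono hU).trans (by rw [cj_cj, inv_mul_cancel, cj_one])
    have h2 : A ≤ normalizer (cj g⁻¹ U : Set G) := by
      have h3 : cj g⁻¹ (cj g A) ≤ normalizer (cj g⁻¹ U : Set G) :=
        (map_mono hAU).trans (le_normalizer_map (H := U) (MulAut.conj g⁻¹).toMonoidHom)
      rwa [cj_cj, inv_mul_cancel, cj_one] at h3
    have h4 : cj g (cj g⁻¹ U) = U := by rw [cj_cj, mul_inv_cancel, cj_one]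
    rcases h.irr _ h1 h2 with h5 | h5
    · exact Or.inl (by rw [← h4, h5]; exact Subgroup.map_bot _)
    · exact Or.inr (by rw [← h4, h5])

/-- A `p'`-free statement: what stabilises a chain `1 ≤ U ≤ V` and acts faithfully is a `p`-group. -/
theorem eq_bot_of_chain {V E K U : Subgroup G} (hV : Cfsg.IsElementaryAbelian p V)
    (hEV : E ≤ normalizer (V : Set G))
    (hf : E ⊓ centralizer (V : Set G) = ⊥) (hOp : Cfsg.pCore p ↥E = ⊥) (hKE : K ≤ E)
    (hsn : (K.subgroupOf E).IsSubnormal) (h1 : ⁅V, K⁆ ≤ U) (h2 : K ≤ centralizer (U : Set G))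
    (hUV : U ≤ V) : K = ⊥ := by
  have hP : IsPGroup p K := by
    rintro ⟨k, hk⟩
    refine ⟨1, Subtype.ext ?_⟩
    rw [SubmonoidClass.coe_pow, pow_one, OneMemClass.coe_one, ← mem_bot, ← hf]
    refine ⟨pow_mem (hKE hk) p, mem_centralizer_iff.2 fun v hv => ?_⟩
    have hu : ⁅v, k⁆ ∈ U := h1 (commutator_mem_commutator hv hk)
    have hpow : ∀ n : ℕ, ⁅v, k ^ n⁆ = ⁅v, k⁆ ^ n := by
      intro n
      induction n with
      | zero => simp
      | succ n ih =>
        have e1 : ⁅v, k ^ (n + 1)⁆ = ⁅v, k⁆ * (k * ⁅v, k ^ n⁆ * k⁻¹) := by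
          rw [pow_succ']; simp only [commutatorElement_def]; group
        have hc : Commute ⁅v, k⁆ k := mem_centralizer_iff.1 (h2 hk) _ hu
        rw [e1, ih, (hc.pow_left n).symm.eq, mul_inv_cancel_right, ← pow_succ']
    have := hpow p
    rw [(Thompson.ea_iff.1 hV).2 _ (hUV hu), commutatorElement_eq_one_iff_mul_comm] at this
    exact this
  have := Layer.subnormal_le_pCore hsn (hP.comap_of_injective E.subtype E.subtype_injective)
  rw [hOp, le_bot_iff, subgroupOf_eq_bot, disjoint_iff, inf_eq_left.2 hKE] at this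
  exact this

/-- **Two subnormal irreducible parts are independent.** -/
theorem irrPart_pair {V : Subgroup G} (hV : Cfsg.IsElementaryAbelian p V) (E : Subgroup G) :
    ∀ E₁ E₂ : Subgroup G, E ≤ normalizer (V : Set G) → E ⊓ centralizer (V : Set G) = ⊥ →
      Cfsg.pCore p ↥E = ⊥ → E = E₁ ⊔ E₂ → IrrPart V E E₁ → IrrPart V E E₂ →
      ¬ ⁅V, E₁⁆ ≤ ⁅V, E₂⁆ → ¬ ⁅V, E₂⁆ ≤ ⁅V, E₁⁆ →
      ⁅V, E₁⁆ ⊓ ⁅V, E₂⁆ = ⊥ ∧ E₁ ≤ centralizer ((⁅V, E₂⁆ : Subgroup G) : Set G) ∧
        E₂ ≤ centralizer ((⁅V, E₁⁆ : Subgroup G) : Set G) := by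
  induction E using WellFoundedLT.induction with
  | _ E ih =>
  intro E₁ E₂ hEV hf hOp hgen h₁ h₂ h12 h21
  have hVc := (Thompson.ea_iff.1 hV).1
  have hsub : ∀ A, A ≤ E → ⁅V, A⁆ ≤ V := fun A hA =>
    le_normalizer_iff_commutator_le_left.1 (hA.trans hEV)
  -- faithful on the commutator
  have hfaith : ∀ A, IrrPart V E A → A ⊓ centralizer ((⁅V, A⁆ : Subgroup G) : Set G) = ⊥ := by
    intro A hA
    set K := A ⊓ centralizer ((⁅V, A⁆ : Subgroup G) : Set G) with hK
    refine eq_bot_of_chain hV hEV hf hOp (inf_le_left.trans hA.le) ?_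
      (commutator_mono le_rfl (inf_le_left : K ≤ A)) inf_le_right (hsub A hA.le)
    have hn : A ≤ normalizer (K : Set G) := Coprime.le_normalizer_inf le_normalizer
      (Coprime.le_normalizer_centralizer (normalizer_commutator_ge_right V A))
    refine IsSubnormal.step _ _ (comap_mono inf_le_left) hA.sn ?_
    refine normal_subgroupOf_of_le_normalizer ?_
    exact (comap_mono hn).trans (le_normalizer_comap _)
  have hne : ∀ A, IrrPart V E A → A ≠ ⊥ := fun A hA h0 => by
    have := hA.card_gt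
    rw [h0, card_bot] at this
    omega
  have hCfix : ∀ A, IrrPart V E A → ⁅V, A⁆ ⊓ centralizer (A : Set G) = ⊥ := by
    intro A hA
    refine (hA.irr _ inf_le_left (Coprime.le_normalizer_inf (normalizer_commutator_ge_right V A)
      (Coprime.le_normalizer_centralizer le_normalizer))).resolve_right fun he => hne A hA ?_
    rw [← hfaith A hA, inf_eq_left.2 (le_centralizer_iff.1 (inf_eq_left.1 he))]
  -- conjugate parts are equal or independent
  have dich : ∀ A, IrrPart V E A → A ≠ E → ∀ g ∈ E,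
      ⁅V, cj g A⁆ = ⁅V, A⁆ ∨ (⁅V, A⁆ ⊓ ⁅V, cj g A⁆ = ⊥ ∧
        A ≤ centralizer ((⁅V, cj g A⁆ : Subgroup G) : Set G) ∧
        cj g A ≤ centralizer ((⁅V, A⁆ : Subgroup G) : Set G)) := by
    intro A hA hAE g hg
    by_cases heq : ⁅V, cj g A⁆ = ⁅V, A⁆
    · exact Or.inl heq
    right
    have hB := hA.conj hEV hg
    set B := cj g A with hBdef
    have hcardB : Nat.card (⁅V, B⁆ : Subgroup G) = Nat.card (⁅V, A⁆ : Subgroup G) := by
      rw [hBdef, ← cj_commutator_left (hEV hg), card_cj]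
    set F := A ⊔ B with hF
    have hFE : F ≤ E := sup_le hA.le hB.le
    have hFlt : F < E := by
      refine lt_of_le_of_ne hFE fun hFE' => hAE ?_
      rcases hA.sn.lt_normal with h0 | ⟨N, hN, hAN, hNlt⟩
      · exact le_antisymm hA.le (subgroupOf_eq_top.1 h0)
      · exfalso
        have hBN : B.subgroupOf E ≤ N := by
          rw [hBdef, ← cj_subgroupOf (⟨g, hg⟩ : E)]
          rintro - ⟨a, ha, rfl⟩
          exact hN.conj_mem _ (hAN ha) _
        have : F.subgroupOf E ≤ N := by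
          rw [hF, subgroupOf_sup hA.le hB.le]
          exact sup_le hAN hBN
        rw [hFE', subgroupOf_self] at this
        exact hNlt.ne (top_le_iff.1 this)
    have hFsn : (F.subgroupOf E).IsSubnormal := by
      rw [hF, subgroupOf_sup hA.le hB.le]
      exact Layer.isSubnormal_sup hA.sn hB.sn
    have hFOp : Cfsg.pCore p ↥F = ⊥ := by
      rw [← Core.map_pCore (subgroupOfEquivOfLe hFE),
        Subgroup.map_eq_bot_iff_of_injective _ (subgroupOfEquivOfLe hFE).injective,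
        ← Subgroup.map_eq_bot_iff_of_injective _ (F.subgroupOf E).subtype_injective,
        ← le_bot_iff, ← hOp]
      exact Layer.subnormal_le_pCore (Subgroup.Normal.isSubnormal inferInstance |>.trans' hFsn)
        (Core.pCore_isPGroup.map _)
    have hpart : ∀ C, C ≤ F → IrrPart V E C → IrrPart V F C := fun C hC hC' =>
      ⟨hC, hC'.sn.comap (inclusion hFE), hC'.card_gt, hC'.irr⟩
    obtain ⟨r1, r2, r3⟩ := ih F hFlt A B (hFE.trans hEV)
      (le_bot_iff.1 ((inf_le_inf_right _ hFE).trans hf.le)) hFOp rfl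
      (hpart A le_sup_left hA) (hpart B le_sup_right hB)
      (fun hle => heq (eq_of_le_of_card_ge hle hcardB.le).symm)
      (fun hle => heq (eq_of_le_of_card_ge hle hcardB.ge))
    exact ⟨r1, r2, r3⟩
  have hne₁ : E₁ ≠ E := fun h0 => h21 (commutator_mono le_rfl (h₂.le.trans h0.ge))
  have hne₂ : E₂ ≠ E := fun h0 => h12 (commutator_mono le_rfl (h₁.le.trans h0.ge))
  -- a part moved by the other one
  have hmoved : ∀ A B, IrrPart V E A → IrrPart V E B → A ≠ E → ¬ ⁅V, A⁆ ≤ ⁅V, B⁆ →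
      ¬ B ≤ normalizer ((⁅V, A⁆ : Subgroup G) : Set G) →
      ¬ A ≤ normalizer ((⁅V, B⁆ : Subgroup G) : Set G) ∧
        Nat.card (⁅V, A⁆ : Subgroup G) ≤ Nat.card (⁅V, B⁆ : Subgroup G) := by
    intro A B hA hB hAE hAB hBA
    obtain ⟨g, hgB, hg⟩ := SetLike.not_le_iff_exists.1 hBA
    have hgE := hB.le hgB
    have hgne : ⁅V, cj g A⁆ ≠ ⁅V, A⁆ := fun he => hg <| by
      rw [mem_normalizer_iff]
      intro z
      rw [← cj_commutator_left (hEV hgE)] at he
      conv_rhs => rw [← he, mem_cj]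
      simp [mul_assoc]
    obtain ⟨hd, hAc, hcA⟩ := (dich A hA hAE g hgE).resolve_left hgne
    set W := ⁅V, A⁆ with hW
    set W' := ⁅V, cj g A⁆ with hW'
    have hmem : ∀ v ∈ W, g * v * g⁻¹ ∈ W' := fun v hv => by
      rw [hW', ← cj_commutator_left (hEV hgE)]
      exact ⟨v, hv, rfl⟩
    refine ⟨fun hAB' => ?_, ?_⟩
    · -- `A` normalises the module of `B`
      have hdisj : W ⊓ ⁅V, B⁆ = ⊥ :=
        (hA.irr _ inf_le_left (Coprime.le_normalizer_inf (normalizer_commutator_ge_right V A)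
          hAB')).resolve_right fun he => hAB (inf_eq_left.1 he)
      have hcB : ⁅V, B⁆ ≤ centralizer (A : Set G) := by
        rw [← commutator_eq_bot_iff_le_centralizer, ← le_bot_iff, ← hdisj]
        exact le_inf (commutator_mono (hsub B hB.le) le_rfl)
          (le_normalizer_iff_commutator_le_left.1 hAB')
      have hWbot : W = ⊥ := by
        rw [← le_bot_iff, ← hCfix A hA]
        intro v hv
        refine ⟨hv, ?_⟩
        have h1 : ⁅v, g⁆ ∈ centralizer (A : Set G) :=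
          hcB (commutator_mem_commutator (hsub A hA.le hv) hgB)
        have h2 : (g * v * g⁻¹) ∈ centralizer (A : Set G) :=
          le_centralizer_iff.1 hAc (hmem v hv)
        have h3 : v = ⁅v, g⁆ * (g * v * g⁻¹) := by simp only [commutatorElement_def]; group
        rw [h3]
        exact mul_mem h1 h2
      refine hne A hA (le_bot_iff.1 ?_)
      rw [← hf]
      refine le_inf hA.le ?_
      rw [le_centralizer_iff]
      exact commutator_eq_bot_iff_le_centralizer.1 hWbot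
    · let φ : W → (⁅V, B⁆ : Subgroup G) := fun v =>
        ⟨⁅(v : G), g⁆, commutator_mem_commutator (hsub A hA.le v.2) hgB⟩
      refine Nat.card_le_card_of_injective φ fun v w he => Subtype.ext ?_
      have h1 : ⁅(v : G), g⁆ = ⁅(w : G), g⁆ := congrArg Subtype.val he
      rw [commutatorElement_def, commutatorElement_def] at h1
      have h2 : (w : G)⁻¹ * v = g * ((w : G)⁻¹ * v) * g⁻¹ := by
        calc (w : G)⁻¹ * v = (w : G)⁻¹ * ((v : G) * g * (v : G)⁻¹ * g⁻¹) * (g * v * g⁻¹) := by group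
          _ = _ := by rw [h1]; group
      have h3 : (w : G)⁻¹ * v = 1 := by
        rw [← mem_bot, ← hd]
        refine mem_inf.2 ⟨mul_mem (inv_mem w.2) v.2, ?_⟩
        rw [h2]
        exact hmem _ (mul_mem (inv_mem w.2) v.2)
      exact (inv_mul_eq_one.1 h3).symm
  have both : E₁ ≤ normalizer ((⁅V, E₂⁆ : Subgroup G) : Set G) ∧
      E₂ ≤ normalizer ((⁅V, E₁⁆ : Subgroup G) : Set G) := by
    by_contra hno
    have hno1 : ¬ E₁ ≤ normalizer ((⁅V, E₂⁆ : Subgroup G) : Set G) := fun hh =>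
      (hmoved E₁ E₂ h₁ h₂ hne₁ h12 fun h' => hno ⟨hh, h'⟩).1 hh
    obtain ⟨hno2, hle21⟩ := hmoved E₂ E₁ h₂ h₁ hne₂ h21 hno1
    obtain ⟨-, hle12⟩ := hmoved E₁ E₂ h₁ h₂ hne₁ h12 hno2
    obtain ⟨g, hg2, hg⟩ := SetLike.not_le_iff_exists.1 hno2
    have hgE := h₂.le hg2
    have hgne : ⁅V, cj g E₁⁆ ≠ ⁅V, E₁⁆ := fun he => hg <| by
      rw [mem_normalizer_iff]
      intro z
      rw [← cj_commutator_left (hEV hgE)] at he
      conv_rhs => rw [← he, mem_cj]
      simp [mul_assoc]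
    obtain ⟨hd, hc, -⟩ := (dich E₁ h₁ hne₁ g hgE).resolve_left hgne
    set W := ⁅V, E₁⁆ with hW
    set W' := ⁅V, cj g E₁⁆ with hW'
    set W₂ := ⁅V, E₂⁆ with hW₂
    have hmem : ∀ v ∈ W, g * v * g⁻¹ ∈ W' := fun v hv => by
      rw [hW', ← cj_commutator_left (hEV hgE)]
      exact ⟨v, hv, rfl⟩
    have hinj : ∀ v ∈ W, ⁅v, g⁆ ∈ W → v = 1 := fun v hv hvW => by
      have h3 : g * v * g⁻¹ ∈ W := by
        have e : g * v * g⁻¹ = ⁅v, g⁆⁻¹ * v := by simp only [commutatorElement_def]; group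
        rw [e]
        exact mul_mem (inv_mem hvW) hv
      have h4 : g * v * g⁻¹ = 1 := by rw [← mem_bot, ← hd]; exact ⟨h3, hmem v hv⟩
      simpa using h4
    let φ : W → W₂ := fun v =>
      ⟨⁅(v : G), g⁆, commutator_mem_commutator (hsub E₁ h₁.le v.2) hg2⟩
    have hφ : Function.Bijective φ := by
      refine (Nat.bijective_iff_injective_and_card φ).2 ⟨?_, le_antisymm hle12 hle21⟩
      intro v w he
      refine Subtype.ext ?_
      have h1 : ⁅(v : G), g⁆ = ⁅(w : G), g⁆ := congrArg Subtype.val he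
      rw [commutatorElement_def, commutatorElement_def] at h1
      have h2 : (w : G)⁻¹ * v = g * ((w : G)⁻¹ * v) * g⁻¹ := by
        calc (w : G)⁻¹ * v = (w : G)⁻¹ * ((v : G) * g * (v : G)⁻¹ * g⁻¹) * (g * v * g⁻¹) := by group
          _ = _ := by rw [h1]; group
      have h3 : (w : G)⁻¹ * v = 1 := by
        rw [← mem_bot, ← hd]
        refine mem_inf.2 ⟨mul_mem (inv_mem w.2) v.2, ?_⟩
        rw [h2]
        exact hmem _ (mul_mem (inv_mem w.2) v.2)
      exact (inv_mul_eq_one.1 h3).symm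
    have hW₂le : W₂ ≤ W ⊔ W' := by
      intro z hz
      obtain ⟨v, hv⟩ := hφ.2 ⟨z, hz⟩
      have hz' : ⁅(v : G), g⁆ = z := congrArg Subtype.val hv
      have e : ⁅(v : G), g⁆ = v * (g * v * g⁻¹)⁻¹ := by simp only [commutatorElement_def]; group
      rw [← hz', e]
      exact mul_mem_sup v.2 (inv_mem (hmem v v.2))
    have hWW₂ : W ⊓ W₂ = ⊥ := by
      rw [eq_bot_iff]
      rintro z ⟨hzW, hz⟩
      obtain ⟨v, hv⟩ := hφ.2 ⟨z, hz⟩
      have hz' : ⁅(v : G), g⁆ = z := congrArg Subtype.val hv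
      have := hinj v v.2 (hz' ▸ hzW)
      rw [← hz', this, commutatorElement_one_left]
      exact one_mem _
    -- only `1` of `E₁` normalises `W₂`
    have hfree : ∀ e ∈ E₁, cj e W₂ = W₂ → e = 1 := by
      intro e he heq
      rw [← mem_bot, ← hfaith E₁ h₁]
      refine ⟨he, mem_centralizer_iff.2 fun v hv => ?_⟩
      set x := g * v * g⁻¹ with hx
      have hxe : e * x⁻¹ * e⁻¹ = x⁻¹ := by
        rw [← mem_centralizer_iff.1 (hc he) _ (inv_mem (hmem v hv)), mul_inv_cancel_right]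
      have hw : v * x⁻¹ ∈ W₂ := by
        have hh : ⁅v, g⁆ ∈ W₂ := commutator_mem_commutator (hsub E₁ h₁.le hv) hg2
        have e1 : ⁅v, g⁆ = v * x⁻¹ := by rw [hx]; simp only [commutatorElement_def]; group
        rwa [e1] at hh
      have hw' : e * v * e⁻¹ * x⁻¹ ∈ W₂ := by
        have hh : e * (v * x⁻¹) * e⁻¹ ∈ W₂ := heq.le ⟨_, hw, rfl⟩
        have e2 : e * (v * x⁻¹) * e⁻¹ = e * v * e⁻¹ * (e * x⁻¹ * e⁻¹) := by group
        rwa [e2, hxe] at hh
      have h5 : e * v * e⁻¹ * v⁻¹ = 1 := by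
        rw [← mem_bot, ← hWW₂]
        refine mem_inf.2 ⟨mul_mem ((mem_normalizer_iff.1 (normalizer_commutator_ge_right V E₁ he) v).1 hv)
          (inv_mem hv), ?_⟩
        have e3 : e * v * e⁻¹ * v⁻¹ = e * v * e⁻¹ * x⁻¹ * (v * x⁻¹)⁻¹ := by group
        rw [e3]
        exact mul_mem hw' (inv_mem hw)
      rw [mul_inv_eq_one, mul_inv_eq_iff_eq_mul] at h5
      exact h5.symm
    obtain ⟨e, he, he1, e', he', he'1, hee⟩ : ∃ e ∈ E₁, e ≠ 1 ∧ ∃ e' ∈ E₁, e' ≠ 1 ∧ e ≠ e' := by
      obtain ⟨e, he, he1⟩ := exists_ne_one_of_ne_bot (hne E₁ h₁)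
      refine ⟨e, he, he1, by_contra fun hall => ?_⟩
      push Not at hall
      have hset : (E₁ : Set G) ⊆ {1, e} := fun z hz => by
        by_cases hz1 : z = 1
        · exact Or.inl hz1
        · exact Or.inr (hall z hz hz1).symm
      have := Set.ncard_le_ncard hset (Set.toFinite _)
      rw [← Nat.card_coe_set_eq] at this
      have hc2 : Nat.card E₁ ≤ 2 := this.trans ((Set.ncard_insert_le _ _).trans (by simp))
      exact absurd h₁.card_gt (not_lt.2 hc2)
    have hWn : E₁ ≤ normalizer ((W ⊔ W' : Subgroup G) : Set G) :=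
      Layer.le_normalizer_sup (normalizer_commutator_ge_right V E₁)
        (hc.trans (centralizer_le_normalizer _))
    have hcj : ∀ d ∈ E₁, ⁅V, cj d E₂⁆ = cj d W₂ := fun d hd' =>
      (cj_commutator_left (hEV (h₁.le hd')) _).symm
    have hne_e : cj e W₂ ≠ W₂ := fun h0 => he1 (hfree e he h0)
    have hne_e' : cj e' W₂ ≠ W₂ := fun h0 => he'1 (hfree e' he' h0)
    have hne_ee : cj e W₂ ≠ cj e' W₂ := fun h0 => hee (by
      have h6 := hfree (e'⁻¹ * e) (mul_mem (inv_mem he') he)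
        (by rw [← cj_cj, h0, cj_cj, inv_mul_cancel, cj_one])
      exact (inv_mul_eq_one.1 h6).symm)
    obtain ⟨hd2, -, -⟩ := (dich E₂ h₂ hne₂ e (h₁.le he)).resolve_left (by rw [hcj e he]; exact hne_e)
    obtain ⟨-, -, hcE'⟩ :=
      (dich E₂ h₂ hne₂ e' (h₁.le he')).resolve_left (by rw [hcj e' he']; exact hne_e')
    have hE' := h₂.conj hEV (h₁.le he)
    have hb : ⁅V, cj (e' * e⁻¹) (cj e E₂)⁆ ≠ ⁅V, cj e E₂⁆ := by
      rw [cj_cj, inv_mul_cancel_right, hcj e he, hcj e' he']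
      exact hne_ee.symm
    obtain ⟨-, -, hcE⟩ := (dich (cj e E₂) hE' (fun h0 => hne₂ (by
      have := congrArg (cj e⁻¹) h0
      rwa [cj_cj, inv_mul_cancel, cj_one, cj_eq_self (le_normalizer (inv_mem (h₁.le he)))] at this))
      (e' * e⁻¹) (mul_mem (h₁.le he') (inv_mem (h₁.le he)))).resolve_left hb
    rw [cj_cj, inv_mul_cancel_right] at hcE
    rw [hcj e he] at hd2 hcE
    have hcard : Nat.card (W ⊔ W' : Subgroup G) ≤ Nat.card (W₂ ⊔ cj e W₂ : Subgroup G) := by
      have e1 := Thompson.card_sup_mul_card_inf_of_comm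
        (((hsub E₁ h₁.le).trans (hVc.trans (centralizer_le (hsub _ (h₁.conj hEV hgE).le)))) :
          W ≤ centralizer (W' : Set G))
      have hWe : cj e W₂ ≤ V := (hcj e he).ge.trans (hsub _ hE'.le)
      have e2 := Thompson.card_sup_mul_card_inf_of_comm
        (((hsub E₂ h₂.le).trans (hVc.trans (centralizer_le hWe))) :
          W₂ ≤ centralizer (cj e W₂ : Set G))
      rw [hd, card_bot, mul_one] at e1
      rw [hd2, card_bot, mul_one] at e2
      rw [e1, e2, hW', ← cj_commutator_left (hEV hgE), card_cj, card_cj, le_antisymm hle12 hle21]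
    have hsup : W₂ ⊔ cj e W₂ = W ⊔ W' := eq_of_le_of_card_ge
      (sup_le hW₂le ((cj_mono hW₂le).trans (cj_eq_self (hWn he)).le)) hcard
    have hbad : cj e' E₂ ≤ centralizer ((cj e' W₂ : Subgroup G) : Set G) := by
      refine le_trans ?_ (centralizer_le
        (((cj_mono hW₂le).trans (cj_eq_self (hWn he')).le).trans hsup.ge))
      rw [Thompson.centralizer_sup]
      exact le_inf hcE' hcE
    refine hne E₂ h₂ ?_
    have h7 := hfaith (cj e' E₂) (h₂.conj hEV (h₁.le he'))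
    rw [hcj e' he', inf_eq_left.2 hbad] at h7
    rw [← cj_one E₂, ← inv_mul_cancel e', ← cj_cj, h7]
    exact Subgroup.map_bot _
  obtain ⟨hn1, hn2⟩ := both
  have hd : ⁅V, E₁⁆ ⊓ ⁅V, E₂⁆ = ⊥ :=
    (h₁.irr _ inf_le_left (Coprime.le_normalizer_inf (normalizer_commutator_ge_right V E₁)
      hn1)).resolve_right fun he => h12 (inf_eq_left.1 he)
  refine ⟨hd, ?_, ?_⟩
  · rw [le_centralizer_iff, ← commutator_eq_bot_iff_le_centralizer, ← le_bot_iff, ← hd]
    exact le_inf (commutator_mono (hsub E₂ h₂.le) le_rfl)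
      (le_normalizer_iff_commutator_le_left.1 hn1)
  · rw [le_centralizer_iff, ← commutator_eq_bot_iff_le_centralizer, ← le_bot_iff, ← hd]
    exact le_inf (le_normalizer_iff_commutator_le_left.1 hn2)
      (commutator_mono (hsub E₁ h₁.le) le_rfl)

end Cfsg.Agent.Offender
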