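import Cfsg.Agent.Thompson.Offender.SL2

/-!
Failure of factorization: blocks are direct factors.
-/

set_option autoImplicit false

namespace Cfsg.Agent.Offender

open Subgroup
open scoped commutatorElement

variable {G : Type*} [Group G]

theorem le_normalizer_of_cj {K X : Subgroup G} (h : ∀ y ∈ X, cj y K = K) :
    X ≤ normalizer (K : Set G) := fun y hy => by
  rw [mem_normalizer_iff]
  intro z
  conv_rhs => rw [← h y hy, mem_cj]
  simp [mul_assoc]

variable [Finite G] {p : ℕ} [Fact p.Prime]

theorem centralizes_of_normalizes {A P : Subgroup G} (hA : Nat.card A = p) (hP : IsPGroup p P)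
    (hPA : P ≤ normalizer (A : Set G)) : P ≤ centralizer (A : Set G) := by
  have hAp : IsPGroup p A := IsPGroup.of_card (n := 1) (by rw [hA, pow_one])
  have hne : A ≠ ⊥ := fun h0 => by
    rw [h0, card_bot] at hA; exact (Fact.out : p.Prime).ne_one hA.symm
  have hlt := Coprime.commutator_lt_of_isPGroup hP hAp hPA hne
  rcases inf_eq_bot_or_le hA ⁅A, P⁆ with h0 | h0
  · rw [inf_eq_right.2 hlt.le, commutator_comm] at h0
    exact commutator_eq_bot_iff_le_centralizer.1 h0
  · exact absurd (le_antisymm hlt.le h0) hlt.ne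

variable {V H A B : Subgroup G} (h : FF p V H)

namespace FF

include h

/-- It is enough to test on lines. -/
theorem le_of_lines {K : Subgroup G} (hK : ∀ L, IsLine p V H L → L ≤ K) : H ≤ K := by
  conv_lhs => rw [h.hS3]
  refine iSup_le fun ⟨X, hXH, hX⟩ => ?_
  obtain ⟨k, L, hL, -, hsup⟩ := h.exists_lines hXH hX
  exact hsup.symm.le.trans (iSup_le fun i => hK _ (hL i).2)

theorem exists_line (hH : H ≠ ⊥) : ∃ L, IsLine p V H L := by
  by_contra! hno
  exact hH (le_bot_iff.1 (h.le_of_lines fun L hL => absurd hL (hno L)))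

end FF

namespace IsLine

variable (hl : IsLine p V H A) (hm : IsLine p V H B)
include h hl

theorem commutator_mem_plane : ⁅V, A⁆ ≤ ⁅V, blk p H A⁆ := commutator_mono le_rfl le_sup_right

omit hl in
theorem plane_le_V (hl : IsLine p V H A) : ⁅V, blk p H A⁆ ≤ V :=
  le_normalizer_iff_commutator_le_left.1 ((hl.blk_le h).trans h.hHV)

include hm

theorem centralizes_of_commutator_le (hle : ⁅V, A⁆ ≤ centralizer (B : Set G)) :
    B ≤ centralizer (A : Set G) ∧ ⁅V, B⁆ ≤ centralizer (A : Set G) := by
  have hBA : B ≤ centralizer (A : Set G) := by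
    refine centralizes_of_normalizes hl.card_eq (Thompson.ea_isPGroup hm.ea)
      (le_normalizer_of_cj fun b hb => ?_)
    have hbV := hm.le_normalizer_V h hb
    set A' := cj b A with hA'
    have hl' : IsLine p V H A' := hl.conj (hm.le hb) hbV
    have hz : ⁅V, A'⁆ = ⁅V, A⁆ := by
      rw [hA', ← cj_commutator_left hbV]
      exact cj_eq_self (centralizer_le_normalizer _ (le_centralizer_iff.1 hle hb))
    set W := ⁅V, blk p H A⁆ with hW
    set W' := ⁅V, blk p H A'⁆ with hW'
    have hWW : W = W' := by
      have h1 : W ⊓ W' = W := (hl.eq_bot_or_eq h inf_le_left (Coprime.le_normalizer_inf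
        (hl.core_le_normalizer_blk_commutator h)
        (hl'.core_le_normalizer_blk_commutator h))).resolve_left fun h0 => by
          have hle' : ⁅V, A⁆ ≤ W ⊓ W' :=
            le_inf (hl.commutator_mem_plane h) (hz ▸ hl'.commutator_mem_plane h)
          rw [h0, le_bot_iff] at hle'
          exact (h.commutator_ne_bot_iff hl.le).2 hl.ne_bot hle'
      exact eq_of_le_of_card_ge (inf_eq_left.1 h1)
        (by rw [hl'.card_blk_commutator h, hl.card_blk_commutator h])
    set C := V ⊓ centralizer (blk p H A : Set G) with hC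
    have hR' : ⁅core p H, A'⁆ ≤ core p H := commutator_core_le hl'.le
    have hQC : core p H ≤ normalizer (C : Set G) :=
      Coprime.le_normalizer_inf h.core_le_normalizer
        (Coprime.le_normalizer_centralizer (hl.core_le_normalizer_blk h))
    have h0 : ⁅C, ⁅core p H, A'⁆⁆ = ⊥ := by
      rw [← le_bot_iff, ← hl.blk_commutator_inf h]
      exact le_inf ((commutator_mono inf_le_left le_sup_left).trans hWW.ge)
        (le_normalizer_iff_commutator_le_left.1 (hR'.trans hQC))
    have hCC : C ≤ V ⊓ centralizer (blk p H A' : Set G) := by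
      rw [← hl'.fix_commutator_core h]
      exact le_inf inf_le_left (commutator_eq_bot_iff_le_centralizer.1 h0)
    have hfix : V ⊓ centralizer (A : Set G) = ⁅V, A⁆ ⊔ C ∧
        ⁅V, A⁆ ⊔ C ≤ V ⊓ centralizer (A' : Set G) := by
      refine ⟨(eq_of_le_of_card_ge (sup_le (le_inf (hl.commutator_le_V h)
        (hl.commutator_le_centralizer h)) (cap_centralizer_of_le le_sup_right)) ?_).symm,
        sup_le (hz ▸ le_inf (hl'.commutator_le_V h) (hl'.commutator_le_centralizer h))
          (hCC.trans (cap_centralizer_of_le le_sup_right))⟩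
      have e := Thompson.card_sup_mul_card_inf_of_comm
        ((hl.commutator_le_V h).trans (h.hVc.trans (centralizer_le (inf_le_left : C ≤ V))))
      have hd : ⁅V, A⁆ ⊓ C = ⊥ := by
        rw [← le_bot_iff, ← hl.blk_commutator_inf h]
        exact inf_le_inf_right _ (hl.commutator_mem_plane h)
      rw [hd, card_bot, mul_one, hl.card_commutator h] at e
      rw [e]
      refine Nat.le_of_mul_le_mul_right ?_ (Fact.out : p.Prime).pos
      rw [hl.card_fix, ← hl.card_blk_fix h, sq]
      exact le_of_eq (by ring)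
    refine (hl.ext h hl' hz (eq_of_le_of_card_ge (hfix.1.le.trans hfix.2) ?_).symm).symm
    refine Nat.le_of_mul_le_mul_right ?_ (Fact.out : p.Prime).pos
    rw [hl.card_fix, hl'.card_fix]
  refine ⟨hBA, ?_⟩
  rw [le_centralizer_iff]
  refine centralizes_of_normalizes (hm.card_commutator h) (Thompson.ea_isPGroup hl.ea)
    (le_normalizer_of_cj fun a ha => ?_)
  rw [cj_commutator_left (hl.le_normalizer_V h ha)]
  congr 1
  exact cj_eq_self (centralizer_le_normalizer _ (le_centralizer_iff.1 hBA ha))

/-- A line lies in a block or centralises the block and its plane. -/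
theorem mem_or_centralizes :
    B ≤ blk p H A ∨ (B ≤ centralizer (blk p H A : Set G) ∧
      B ≤ centralizer ((⁅V, blk p H A⁆ : Subgroup G) : Set G) ∧
      ⁅V, B⁆ ≤ V ⊓ centralizer (blk p H A : Set G)) := by
  set W := ⁅V, blk p H A⁆ with hW
  by_cases hWB : W ≤ centralizer (B : Set G)
  · right
    obtain ⟨x, hx, hxA⟩ := hl.exists_not_centralizes h
    have hl' := hl.cj_core h hx
    have h1 := hl.centralizes_of_commutator_le h hm ((hl.commutator_mem_plane h).trans hWB)
    have h2 := hl'.centralizes_of_commutator_le h hm (by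
      refine le_trans ?_ hWB
      rw [hW, ← hl.blk_cj h hx]
      exact hl'.commutator_mem_plane h)
    rw [hl.blk_eq h hx hxA, Thompson.centralizer_sup]
    exact ⟨le_inf h1.1 h2.1, le_centralizer_iff.1 hWB,
      le_inf (hm.commutator_le_V h) (le_inf h1.2 h2.2)⟩
  left
  have hWV : W ≤ V := hl.plane_le_V h
  set c := V ⊓ centralizer (B : Set G) with hc
  have hne : c ⊓ W ≠ ⊥ := fun h0 => by
    have e := Thompson.card_sup_mul_card_inf_of_comm
      ((inf_le_left : c ≤ V).trans (h.hVc.trans (centralizer_le hWV)))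
    rw [h0, card_bot, mul_one, hl.card_blk_commutator h] at e
    have hle : Nat.card c * p ^ 2 ≤ Nat.card V := e ▸ card_le_of_le (sup_le inf_le_left hWV)
    rw [← hm.card_fix] at hle
    have := Nat.le_of_mul_le_mul_left hle Nat.card_pos
    nlinarith [(Fact.out : p.Prime).two_le]
  obtain ⟨t, ht, ht1⟩ := exists_ne_one_of_ne_bot hne
  have hcard : Nat.card (zpowers t) = p := by
    rw [Nat.card_zpowers]
    exact orderOf_eq_prime ((Thompson.ea_iff.1 h.hV).2 t (hWV ht.2)) ht1
  obtain ⟨y, hy, -, he⟩ := hl.exists_line_of_le h (zpowers_le.2 ht.2) hcard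
  set D := cj y A with hD
  have hd : IsLine p V H D := hl.cj_core h hy
  have hDblk : blk p H D = blk p H A := hl.blk_cj h hy
  have hDB : ⁅V, D⁆ ≤ centralizer (B : Set G) := by
    rw [← he, zpowers_le]; exact ht.1.2
  obtain ⟨hBD, hzBD⟩ := hd.centralizes_of_commutator_le h hm hDB
  have hBE : B ≤ normalizer (blk p H A : Set G) := by
    refine le_normalizer_of_cj fun b hb => ?_
    rw [← hDblk, cj_blk (hm.le hb), cj_eq_self (centralizer_le_normalizer _ (hBD hb))]
  have hBW : B ≤ normalizer (W : Set G) := by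
    refine le_normalizer_of_cj fun b hb => ?_
    rw [hW, cj_commutator_left (hm.le_normalizer_V h hb), cj_eq_self (hBE hb)]
  set C := V ⊓ centralizer (blk p H A : Set G) with hC
  have hzW : ⁅V, B⁆ ≤ W := by
    refine (inf_eq_bot_or_le (hm.card_commutator h) W).resolve_left fun h0 => hWB ?_
    rw [← commutator_eq_bot_iff_le_centralizer, ← le_bot_iff, ← h0]
    exact le_inf (commutator_mono hWV le_rfl) (le_normalizer_iff_commutator_le_left.1 hBW)
  have hCB : C ≤ centralizer (B : Set G) := by
    rw [← commutator_eq_bot_iff_le_centralizer, ← le_bot_iff, ← hl.blk_commutator_inf h]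
    exact le_inf ((commutator_mono inf_le_left le_rfl).trans hzW)
      (le_normalizer_iff_commutator_le_left.1 (Coprime.le_normalizer_inf (hm.le_normalizer_V h)
        (Coprime.le_normalizer_centralizer hBE)))
  have hzD : ⁅V, D⁆ ≤ W := by rw [hW, ← hDblk]; exact hd.commutator_mem_plane h
  have hzeq : ⁅V, B⁆ = ⁅V, D⁆ := by
    have hlt : W ⊓ centralizer (D : Set G) < W := lt_of_le_of_ne inf_le_left fun h0 => by
      refine hd.ne_bot (le_bot_iff.1 ?_)
      rw [← hl.blk_faithful h, ← hDblk]
      exact le_inf le_sup_right (by rw [hDblk]; exact le_centralizer_iff.1 (inf_eq_left.1 h0))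
    have hle : Nat.card (W ⊓ centralizer (D : Set G) : Subgroup G) ≤ p := by
      refine Nat.le_of_mul_le_mul_left ?_ (Fact.out : p.Prime).pos
      rw [← sq, ← hl.card_blk_commutator h]
      exact mul_card_le_of_lt (h.hVp.to_le hWV) hlt
    rw [eq_of_le_of_card_ge (le_inf hzW hzBD) (hle.trans (hm.card_commutator h).ge),
      eq_of_le_of_card_ge (le_inf hzD (hd.commutator_le_centralizer h))
        (hle.trans (hd.card_commutator h).ge)]
  have hceq : V ⊓ centralizer (B : Set G) = V ⊓ centralizer (D : Set G) := by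
    have hsup : Nat.card (⁅V, D⁆ ⊔ C : Subgroup G) * p = Nat.card V := by
      have e := Thompson.card_sup_mul_card_inf_of_comm
        ((hd.commutator_le_V h).trans (h.hVc.trans (centralizer_le (inf_le_left : C ≤ V))))
      have hdisj : ⁅V, D⁆ ⊓ C = ⊥ := by
        rw [← le_bot_iff, ← hl.blk_commutator_inf h]
        exact inf_le_inf_right _ hzD
      rw [hdisj, card_bot, mul_one, hd.card_commutator h] at e
      rw [e, ← hl.card_blk_fix h]
      ring
    have h1 : ⁅V, D⁆ ⊔ C = V ⊓ centralizer (B : Set G) := by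
      refine eq_of_le_of_card_ge (sup_le (le_inf (hd.commutator_le_V h) hDB)
        (le_inf inf_le_left hCB)) (Nat.le_of_mul_le_mul_right ?_ (Fact.out : p.Prime).pos)
      rw [hsup, hm.card_fix]
    have h2 : ⁅V, D⁆ ⊔ C = V ⊓ centralizer (D : Set G) := by
      refine eq_of_le_of_card_ge (sup_le (le_inf (hd.commutator_le_V h)
        (hd.commutator_le_centralizer h)) (cap_centralizer_of_le ?_))
        (Nat.le_of_mul_le_mul_right ?_ (Fact.out : p.Prime).pos)
      · rw [← hDblk]; exact le_sup_right
      · rw [hsup, hd.card_fix]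
    rw [← h1, h2]
  rw [← hd.ext h hm hzeq hceq, ← hDblk]
  exact le_sup_right

omit hm

/-- The complement of a block. -/
theorem direct :
    blk p H A ⊔ (H ⊓ centralizer ((⁅V, blk p H A⁆ : Subgroup G) : Set G)) = H ∧
    H ⊓ centralizer ((⁅V, blk p H A⁆ : Subgroup G) : Set G) ≤
      centralizer (blk p H A : Set G) ∧
    ⁅V, H ⊓ centralizer ((⁅V, blk p H A⁆ : Subgroup G) : Set G)⁆ ≤
      V ⊓ centralizer (blk p H A : Set G) := by
  set E := blk p H A with hE
  set C := H ⊓ centralizer ((⁅V, E⁆ : Subgroup G) : Set G) with hC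
  set K : Subgroup G := C ⊓ centralizer (E : Set G) ⊓
    stab V (V ⊓ centralizer (E : Set G)) with hK
  have hKE : K ≤ centralizer (E : Set G) := inf_le_left.trans inf_le_right
  have hlines : ∀ L, IsLine p V H L → L ≤ E ⊔ K := by
    intro L hL
    rcases hl.mem_or_centralizes h hL with h1 | ⟨h1, h2, h3⟩
    · exact h1.trans le_sup_left
    · exact le_trans (le_inf (le_inf (le_inf hL.le h2) h1)
        (le_stab_iff.2 ⟨Coprime.le_normalizer_inf (hL.le_normalizer_V h)
          (Coprime.le_normalizer_centralizer (h1.trans (centralizer_le_normalizer _))), h3⟩))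
        le_sup_right
  have hsup : E ⊔ K = H := le_antisymm
    (sup_le (hl.blk_le h) ((inf_le_left.trans inf_le_left).trans inf_le_left))
    (h.le_of_lines hlines)
  have hKC : C = K := by
    refine le_antisymm ?_ (inf_le_left.trans inf_le_left)
    intro g hg
    have hgH : g ∈ E ⊔ K := hsup.ge hg.1
    rw [← SetLike.mem_coe, coe_mul_of_right_le_normalizer_left _ _
      (hKE.trans (centralizer_le_normalizer _))] at hgH
    obtain ⟨e, he, k, hk, rfl⟩ := hgH
    have he1 : e = 1 := by
      rw [← mem_bot, ← hl.blk_faithful h]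
      exact ⟨he, ((centralizer _).mul_mem_cancel_right
        (show k ∈ centralizer ((⁅V, E⁆ : Subgroup G) : Set G) from hk.1.1.2)).1 hg.2⟩
    subst he1
    simpa using hk
  rw [hKC]
  exact ⟨hsup, hKE, (le_stab_iff.1 inf_le_right).2⟩

theorem le_normalizer_blk : H ≤ normalizer (blk p H A : Set G) :=
  (hl.direct h).1.ge.trans (sup_le le_normalizer
    ((hl.direct h).2.1.trans (centralizer_le_normalizer _)))

include hm

/-- A line in a block spans the same block. -/
theorem blk_eq_of_le (hle : B ≤ blk p H A) : blk p H B = blk p H A := by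
  refine eq_of_le_of_card_ge (sup_le ?_ hle) ?_
  · exact (commutator_mono le_rfl hle).trans
      (le_normalizer_iff_commutator_le_right.1 (FF.core_le.trans (hl.le_normalizer_blk h)))
  · obtain ⟨f⟩ := hl.exists_iso h
    obtain ⟨g⟩ := hm.exists_iso h
    exact ((Nat.card_congr f.toEquiv).trans (Nat.card_congr g.toEquiv).symm).le

/-- Different blocks centralise each other's planes. -/
theorem blk_le_of_ne (hne : blk p H B ≠ blk p H A) :
    blk p H B ≤ H ⊓ centralizer ((⁅V, blk p H A⁆ : Subgroup G) : Set G) := by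
  rcases hl.mem_or_centralizes h hm with h1 | ⟨-, h2, -⟩
  · exact absurd (hl.blk_eq_of_le h hm h1) hne
  set C := H ⊓ centralizer ((⁅V, blk p H A⁆ : Subgroup G) : Set G) with hC
  have hW : H ≤ normalizer ((⁅V, blk p H A⁆ : Subgroup G) : Set G) :=
    le_normalizer_of_cj fun y hy => by
      rw [cj_commutator_left (h.hHV hy), cj_eq_self (hl.le_normalizer_blk h hy)]
  have hBC : B ≤ C := le_inf hm.le h2
  refine sup_le ((commutator_mono le_rfl hBC).trans ?_) hBC
  exact le_normalizer_iff_commutator_le_right.1 (FF.core_le.trans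
    (Coprime.le_normalizer_inf le_normalizer (Coprime.le_normalizer_centralizer hW)))

end IsLine

end Cfsg.Agent.Offender
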