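import Cfsg.Agent.Thompson.Offender.Structure
import Cfsg.Agent.Coprime.PCoreTools
import Mathlib.GroupTheory.NoncommPiCoprod

/-!
Failure of factorization under coprime operators: blocks embedded diagonally into the fixed points.
-/

set_option autoImplicit false

namespace Cfsg.Agent.Offender

open Subgroup
open scoped commutatorElement

variable {G : Type*} [Group G]

/-- Diagonal embedding into the fixed points of `X`, given that `X` permutes commuting conjugates
of `M` and the stabiliser of `M` centralises it. -/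
theorem exists_diag [Finite G] {X M : Subgroup G} {Y : Subgroup X}
    (hY : ∀ y ∈ Y, ∀ m ∈ M, (y : G) * m * (y : G)⁻¹ = m)
    (hcomm : ∀ a b : X, a⁻¹ * b ∉ Y → cj (a : G) M ≤ centralizer (cj (b : G) M : Set G)) :
    ∃ δ : M →* G, (∀ m, δ m ∈ centralizer (X : Set G)) ∧
      (∀ m f : M, δ m * (f : G) * (δ m)⁻¹ = m * f * (m : G)⁻¹) ∧
      (∀ K : Subgroup G, X ≤ normalizer (K : Set G) → ∀ m : M, (m : G) ∈ K → δ m ∈ K) := by
  classical
  have : Fintype (X ⧸ Y) := Fintype.ofFinite _
  let φ : X ⧸ Y → M →* G := fun i => (MulAut.conj ((Quotient.out i : X) : G)).toMonoidHom.comp M.subtype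
  have hc : Pairwise fun i j => ∀ x y, Commute (φ i x) (φ j y) := fun i j hij x y => by
    refine (mem_centralizer_iff.1 (hcomm i.out j.out (fun h => hij ?_) ⟨_, x.2, rfl⟩) _
      ⟨_, y.2, rfl⟩).symm
    rw [← Quotient.out_eq i, ← Quotient.out_eq j]
    exact QuotientGroup.eq.2 h
  let Φ : (X ⧸ Y → M) →* G := MonoidHom.noncommPiCoprod φ hc
  have hcoset : ∀ (a : X) (m : M),
      φ (a : X ⧸ Y) m = (a : G) * (m : G) * (a : G)⁻¹ := by
    intro a m
    obtain ⟨y, hy⟩ := QuotientGroup.mk_out_eq_mul Y a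
    show ((Quotient.out (a : X ⧸ Y) : X) : G) * (m : G) *
      ((Quotient.out (a : X ⧸ Y) : X) : G)⁻¹ = _
    rw [hy, Subgroup.coe_mul]
    conv_rhs => rw [← hY _ y.2 _ m.2]
    group
  have hone : ∀ m : M, φ ((1 : X) : X ⧸ Y) m = (m : G) := fun m => by rw [hcoset]; simp
  refine ⟨Φ.comp (Pi.monoidHom fun _ => MonoidHom.id M), fun m => ?_, fun m f => ?_,
    fun K hK m hm => ?_⟩
  · rw [mem_centralizer_iff]
    intro x hx
    let R : (X ⧸ Y → M) →* (X ⧸ Y → M) :=
      Pi.monoidHom fun i => Pi.evalMonoidHom (fun _ => M) ((⟨x, hx⟩ : X)⁻¹ • i)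
    have he : (MulAut.conj x).toMonoidHom.comp Φ = Φ.comp R := by
      refine (MonoidHom.noncommPiCoprodEquiv (N := fun _ : X ⧸ Y => ↥M) (M := G)).symm.injective
        (Subtype.ext (funext fun i => MonoidHom.ext fun m => ?_))
      show MulAut.conj x (Φ (Pi.mulSingle i m)) = Φ (R (Pi.mulSingle i m))
      have hR : R (Pi.mulSingle i m) = Pi.mulSingle ((⟨x, hx⟩ : X) • i) m := by
        funext j
        show (Pi.mulSingle i m : X ⧸ Y → M) _ = _
        simp only [Pi.mulSingle_apply, inv_smul_eq_iff]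
      rw [hR]
      simp only [Φ, MonoidHom.noncommPiCoprod_mulSingle]
      induction i using QuotientGroup.induction_on with
      | H a =>
        show MulAut.conj x (φ (a : X ⧸ Y) m) = φ ((((⟨x, hx⟩ : X) * a : X)) : X ⧸ Y) m
        rw [hcoset, hcoset, MulAut.conj_apply, Subgroup.coe_mul]
        group
    have := DFunLike.congr_fun he ((Pi.monoidHom fun _ => MonoidHom.id M) m)
    have h2 : x * Φ ((Pi.monoidHom fun _ => MonoidHom.id M) m) * x⁻¹ =
        Φ ((Pi.monoidHom fun _ => MonoidHom.id M) m) := this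
    exact mul_inv_eq_iff_eq_mul.1 h2
  · set i₀ : X ⧸ Y := ((1 : X) : X ⧸ Y)
    let g : X ⧸ Y → M := fun _ => m
    have hsplit : g = Pi.mulSingle i₀ m * Function.update g i₀ 1 := by
      funext j
      by_cases hj : j = i₀
      · subst hj; simp [g]
      · simp [g, hj]
    have hr : Φ (Function.update g i₀ 1) ∈ centralizer (M : Set G) := by
      simp only [Φ, MonoidHom.noncommPiCoprod_apply]
      refine Subgroup.noncommProd_mem _ _ fun j _ => ?_
      by_cases hj : j = i₀
      · subst hj; simp [one_mem]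
      · rw [Function.update_of_ne hj]
        refine mem_centralizer_iff.2 fun z hz => ?_
        have := hc (Ne.symm hj) ⟨z, hz⟩ m
        rw [hone] at this
        exact this.eq
    show Φ g * (f : G) * (Φ g)⁻¹ = _
    rw [hsplit, map_mul, show Φ (Pi.mulSingle i₀ m) = (m : G) by
      simp only [Φ, MonoidHom.noncommPiCoprod_mulSingle]; exact hone m, mul_inv_rev]
    have := mem_centralizer_iff.1 hr _ f.2
    calc (m : G) * Φ (Function.update g i₀ 1) * f * ((Φ (Function.update g i₀ 1))⁻¹ * (m : G)⁻¹)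
        = m * (Φ (Function.update g i₀ 1) * f) * (Φ (Function.update g i₀ 1))⁻¹ * (m : G)⁻¹ := by
          group
      _ = _ := by rw [← this]; group
  · simp only [MonoidHom.comp_apply, Φ, MonoidHom.noncommPiCoprod_apply]
    exact Subgroup.noncommProd_mem _ _ fun j _ =>
      (mem_normalizer_iff.1 (hK (Quotient.out j : X).2) _).1 hm

variable [Finite G] {p q : ℕ} [Fact p.Prime] [Fact q.Prime] {V H L X : Subgroup G}

omit [Finite G] [Fact p.Prime] [Fact q.Prime] in
theorem cj_sup (y : G) (A B : Subgroup G) : cj y (A ⊔ B) = cj y A ⊔ cj y B := Subgroup.map_sup _ _ _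

theorem cj_core_eq {y : G} (hy : y ∈ normalizer (H : Set G)) : cj y (core p H) = core p H :=
  cj_eq_self (Coprime.le_normalizer_map_of_characteristic le_rfl _ inferInstance hy)

theorem cj_blk_of_normalizes {y : G} (hy : y ∈ normalizer (H : Set G)) (A : Subgroup G) :
    cj y (blk p H A) = blk p H (cj y A) := by
  refine (Subgroup.map_sup _ _ _).trans ?_
  rw [map_commutator]
  congr 2
  exact cj_core_eq hy

namespace IsLine

variable (h : FF p V H) (hl : IsLine p V H L) (hX : IsPGroup q X)
  (hXH : X ≤ normalizer (H : Set G)) (hXV : X ≤ normalizer (V : Set G))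
  (hq : ¬ q ∣ Nat.card H)
include h hl

include hq in
theorem five_le : 5 ≤ q := by
  obtain ⟨f⟩ := hl.exists_iso h
  have hd : Nat.card (blk p H L : Subgroup G) ∣ Nat.card H := card_dvd_of_le (hl.blk_le h)
  rw [Nat.card_congr f.toEquiv, Classical.card_sl2 (F := ZMod p), ZMod.card] at hd
  have hq2 := (Fact.out : q.Prime).two_le
  by_contra hlt
  have h4 : ¬ q = 4 := fun h4 => by
    have := (Fact.out : q.Prime); rw [h4] at this; norm_num at this
  refine hq ((show q ∣ p * (p ^ 2 - 1) from ?_).trans hd)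
  rcases hl.eq_two_or_three h with rfl | rfl <;>
    rcases (show q = 2 ∨ q = 3 by omega) with rfl | rfl <;> norm_num

include hX hXH hXV hq in
/-- Operators normalising a block centralise it and its plane. -/
theorem operator_centralizes {y : G} (hy : y ∈ X)
    (hyL : y ∈ normalizer (blk p H L : Set G)) :
    ∀ m ∈ blk p H L ⊔ ⁅V, blk p H L⁆, y * m * y⁻¹ = m := by
  set W := ⁅V, blk p H L⁆ with hW
  set E := blk p H L with hE
  have hy' : zpowers y ≤ X := zpowers_le.2 hy
  have hyW : zpowers y ≤ normalizer (W : Set G) := le_normalizer_of_cj fun z hz => by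
    rw [hW, cj_commutator_left (hXV (hy' hz)), cj_eq_self (zpowers_le.2 hyL hz)]
  have hWV : W ≤ V := hl.plane_le_V h
  have h5 := hl.five_le h hq
  have hp3 : p ≤ 3 := by rcases hl.eq_two_or_three h with rfl | rfl <;> norm_num
  set F := W ⊓ centralizer (zpowers y : Set G) with hF
  let _ : MulAction (zpowers y) W :=
    MulAction.compHom W ((W.normalizerMonoidHom).comp (inclusion hyW))
  have hfix : Nat.card (MulAction.fixedPoints (zpowers y) W) = Nat.card F := by
    refine Nat.card_congr
      { toFun := fun w => ⟨(w.1 : G), w.1.2, ?_⟩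
        invFun := fun g => ⟨⟨(g : G), g.2.1⟩, ?_⟩
        left_inv := fun _ => rfl
        right_inv := fun _ => rfl }
    · show (w.1 : G) ∈ centralizer (zpowers y : Set G)
      rw [mem_centralizer_zpowers]
      exact mul_inv_eq_iff_eq_mul.1 (congrArg Subtype.val (w.2 ⟨y, mem_zpowers y⟩))
    · intro z
      refine Subtype.ext ?_
      exact mul_inv_eq_iff_eq_mul.2 (mem_centralizer_iff.1 g.2.2 z z.2)
  have hmod := (hX.to_le hy').card_modEq_card_fixedPoints W
  rw [hfix, hl.card_blk_commutator h] at hmod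
  have hFW : F = W := by
    have hdvd : Nat.card F ∣ p ^ 2 :=
      hl.card_blk_commutator h ▸ card_dvd_of_le inf_le_left
    obtain ⟨k, hk2, hk⟩ := (Nat.dvd_prime_pow (Fact.out : p.Prime)).1 hdvd
    refine eq_of_le_of_card_ge inf_le_left ?_
    rw [hl.card_blk_commutator h, hk]
    interval_cases k
    all_goals rw [hk] at hmod
    · have := (Nat.modEq_iff_dvd' (by nlinarith [(Fact.out : p.Prime).two_le])).1 hmod.symm
      rcases hl.eq_two_or_three h with rfl | rfl
      · have := Nat.le_of_dvd (by norm_num) this; norm_num at this; omega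
      · have h2 : q ∣ 2 ^ 3 := by norm_num at this ⊢; exact this
        have := Nat.le_of_dvd (by norm_num) ((Fact.out : q.Prime).dvd_of_dvd_pow h2)
        omega
    · have := (Nat.modEq_iff_dvd' (Nat.pow_le_pow_right (Fact.out : p.Prime).pos one_le_two)).1
        hmod.symm
      rcases hl.eq_two_or_three h with rfl | rfl
      · have := Nat.le_of_dvd (by norm_num) this; norm_num at this; omega
      · have h2 : q ∣ 2 * 3 := by norm_num at this ⊢; exact this
        rcases (Fact.out : q.Prime).dvd_mul.1 h2 with h2 | h2 <;>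
          · have := Nat.le_of_dvd (by norm_num) h2; omega
  have hyC : y ∈ centralizer (W : Set G) :=
    le_centralizer_iff.1 (inf_eq_left.1 hFW) (mem_zpowers y)
  have hfixE : ∀ e ∈ E, y * e * y⁻¹ = e := by
    intro e he
    have h1 : y * e * y⁻¹ * e⁻¹ ∈ E :=
      E.mul_mem ((mem_normalizer_iff.1 hyL e).1 he) (E.inv_mem he)
    have hEW : E ≤ normalizer (centralizer (W : Set G) : Set G) :=
      Coprime.le_normalizer_centralizer (normalizer_commutator_ge_right V E)
    have h2 : y * e * y⁻¹ * e⁻¹ ∈ centralizer (W : Set G) := by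
      rw [mul_assoc y, mul_assoc y]
      exact mul_mem hyC ((mem_normalizer_iff.1 (hEW he) _).1 (inv_mem hyC))
    exact mul_inv_eq_one.1 (mem_bot.1 (hl.blk_faithful h ▸ mem_inf.2 ⟨h1, h2⟩))
  refine fun m hm => ?_
  have hle : E ⊔ W ≤ centralizer (zpowers y : Set G) := sup_le
    (fun e he => mem_centralizer_zpowers.2 (mul_inv_eq_iff_eq_mul.1 (hfixE e he)))
    (inf_eq_left.1 hFW)
  exact mul_inv_eq_iff_eq_mul.2 (mem_centralizer_zpowers.1 (hle hm))

include hX hXH hXV hq in
/-- The diagonal embedding of a block and its plane. -/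
theorem exists_diag : ∃ δ : (blk p H L ⊔ ⁅V, blk p H L⁆ : Subgroup G) →* G,
    Function.Injective δ ∧ (∀ m, δ m ∈ centralizer (X : Set G)) ∧
    (∀ m f : (blk p H L ⊔ ⁅V, blk p H L⁆ : Subgroup G),
      δ m * (f : G) * (δ m)⁻¹ = m * f * (m : G)⁻¹) ∧
    (∀ m : (blk p H L ⊔ ⁅V, blk p H L⁆ : Subgroup G), (m : G) ∈ H → δ m ∈ H) ∧
    (∀ m : (blk p H L ⊔ ⁅V, blk p H L⁆ : Subgroup G), (m : G) ∈ V → δ m ∈ V) := by
  set E := blk p H L with hE
  set W := ⁅V, E⁆ with hW
  obtain ⟨δ, hfix, hconj, hK⟩ := Offender.exists_diag (X := X) (M := E ⊔ W)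
    (Y := ((normalizer (E : Set G)).comap X.subtype))
    (fun y hy => hl.operator_centralizes h hX hXH hXV hq y.2 hy) (fun a b hab => by
      have hne : cj (a : G) E ≠ cj (b : G) E := fun he => hab (by
        rw [mem_comap, mem_normalizer_iff]
        intro z
        have h1 : cj ((a⁻¹ * b : X) : G) E = E := by
          rw [Subgroup.coe_mul, Subgroup.coe_inv, ← cj_cj, ← he, cj_cj, inv_mul_cancel, cj_one]
        conv_rhs => rw [← h1, mem_cj]
        simp [mul_assoc])
      have hla : IsLine p V H (cj (a : G) L) :=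
        ⟨(cj_mono hl.le).trans (cj_eq_self (hXH a.2)).le, (card_cj _ _).trans hl.card_eq,
          by rw [← cj_fix (hXV a.2), card_cj, hl.card_fix]⟩
      have hlb : IsLine p V H (cj (b : G) L) :=
        ⟨(cj_mono hl.le).trans (cj_eq_self (hXH b.2)).le, (card_cj _ _).trans hl.card_eq,
          by rw [← cj_fix (hXV b.2), card_cj, hl.card_fix]⟩
      rw [cj_sup (a : G) E W, cj_sup (b : G) E W, hW, cj_commutator_left (hXV a.2),
        cj_commutator_left (hXV b.2), hE, cj_blk_of_normalizes (hXH a.2),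
        cj_blk_of_normalizes (hXH b.2), Thompson.centralizer_sup]
      rw [hE, cj_blk_of_normalizes (hXH a.2), cj_blk_of_normalizes (hXH b.2)] at hne
      have h1 := hlb.blk_le_of_ne h hla hne
      have h2 := hla.blk_le_of_ne h hlb hne.symm
      refine sup_le (le_inf (h1.trans (hlb.direct h).2.1) (h1.trans inf_le_right))
        (le_inf ?_ ?_)
      · exact le_centralizer_iff.1 (h2.trans inf_le_right)
      · exact (hla.plane_le_V h).trans (h.hVc.trans (centralizer_le (hlb.plane_le_V h))))
  refine ⟨δ, ?_, hfix, hconj, fun m => hK H hXH m, fun m => hK V hXV m⟩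
  rw [injective_iff_map_eq_one]
  intro m hm
  refine Subtype.ext ?_
  have hcm : (m : G) ∈ centralizer ((E ⊔ W : Subgroup G) : Set G) := by
    refine mem_centralizer_iff.2 fun f hf => ?_
    have := hconj m ⟨f, hf⟩
    rw [hm] at this
    have h3 : (m : G) * f * (m : G)⁻¹ = f := by simpa using this.symm
    exact (mul_inv_eq_iff_eq_mul.1 h3).symm
  rw [Thompson.centralizer_sup] at hcm
  have hmem : (m : G) ∈ W ⊔ E := sup_comm E W ▸ m.2
  rw [← SetLike.mem_coe, coe_mul_of_right_le_normalizer_left _ _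
    (normalizer_commutator_ge_right V E)] at hmem
  obtain ⟨w, hw, e, he, heq⟩ := hmem
  change w * e = (m : G) at heq
  rw [← heq] at hcm
  have hwW : w ∈ centralizer (W : Set G) :=
    ((hl.plane_le_V h).trans (h.hVc.trans (centralizer_le (hl.plane_le_V h)))) hw
  have he1 : e = 1 := by
    rw [← mem_bot, ← hl.blk_faithful h]
    exact ⟨he, ((centralizer (W : Set G)).mul_mem_cancel_left hwW).1 hcm.2⟩
  subst he1
  have hw1 : w = 1 := by
    rw [← mem_bot, ← hl.blk_commutator_inf h]
    exact ⟨hw, hl.plane_le_V h hw, by simpa using hcm.1⟩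
  subst hw1
  simpa using heq.symm

end IsLine

end Cfsg.Agent.Offender
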