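import Cfsg.Agent.Thompson.Offender.Action
import Cfsg.Agent.Thompson.Offender.Orbit
import Cfsg.Agent.Thompson.WNormal
import Cfsg.Agent.S0603
import Cfsg.Agent.S0608

/-!
Failure of factorization in a group with coprime operators.
-/

set_option autoImplicit false

namespace Cfsg.Agent.Offender

open Subgroup
open scoped commutatorElement

variable {G : Type*} [Group G] [Finite G] {p q : ℕ} [Fact p.Prime] [Fact q.Prime]

/-- An automorphism restricted to a characteristic subgroup. -/
def restrictAut {M : Type*} [Group M] (V : Subgroup M) [hV : V.Characteristic] :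
    MulAut M →* MulAut V :=
  MonoidHom.mk' (fun φ => (φ.subgroupMap V).trans
    (MulEquiv.subgroupCongr (characteristic_iff_map_eq.1 hV φ))) fun φ ψ =>
    MulEquiv.ext fun v => Subtype.ext rfl

variable (K X : Subgroup G) (hXK : X ≤ normalizer (K : Set G)) (V : Subgroup K) [hV : V.Characteristic]

/-- The operators acting on `V`, inside the holomorph. -/
def opsHom : X →* Hol V :=
  SemidirectProduct.inr.comp ((restrictAut V).comp (K.normalizerMonoidHom.comp (inclusion hXK)))

omit [Finite G] in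
theorem opsHom_conj_inl (x : X) (v : V) :
    opsHom K X hXK V x * SemidirectProduct.inl v * (opsHom K X hXK V x)⁻¹ =
      SemidirectProduct.inl (restrictAut V (K.normalizerMonoidHom (inclusion hXK x)) v) := by
  rw [opsHom, MonoidHom.comp_apply, ← map_inv, ← SemidirectProduct.inl_aut]
  rfl

omit [Finite G] in
theorem opsHom_conj_act (x : X) (k : K) :
    opsHom K X hXK V x * act V k * (opsHom K X hXK V x)⁻¹ =
      act V (K.normalizerMonoidHom (inclusion hXK x) k) := by
  simp only [opsHom, act, MonoidHom.comp_apply]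
  rw [← map_inv, ← map_mul, ← map_mul]
  congr 1
  refine MulEquiv.ext fun v => Subtype.ext ?_
  rw [MulAut.conjNormal_apply]
  generalize K.normalizerMonoidHom (inclusion hXK x) = φ
  show φ ((k : K) * φ.symm v * k⁻¹) = φ k * v * (φ k)⁻¹
  rw [map_mul, map_mul, map_inv, MulEquiv.apply_symm_apply]

include hXK in
/-- Everything needed about the image of `J(K)` and of the operators. -/
theorem ops_setting (hVea : Cfsg.IsElementaryAbelian p V) (hsep : Cfsg.IsPSolvable p ↥K)
    (hD : Cfsg.pCore p (↥K ⧸ (act V).ker) = ⊥) (hX : IsPGroup q X) (hq : ¬ q ∣ Nat.card K) :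
    FF p (emb V V) ((Cfsg.thompsonSubgroup p ↥K).map (act V)) ∧
      IsPGroup q (opsHom K X hXK V).range ∧
      (opsHom K X hXK V).range ≤ normalizer (((Cfsg.thompsonSubgroup p ↥K).map (act V)) : Set (Hol V)) ∧
      (opsHom K X hXK V).range ≤ normalizer ((emb V V : Subgroup (Hol V)) : Set (Hol V)) ∧
      ¬ q ∣ Nat.card ((Cfsg.thompsonSubgroup p ↥K).map (act V)) ∧
      ∀ z ∈ (Cfsg.thompsonSubgroup p ↥K).map (act V),
        z ∈ centralizer ((opsHom K X hXK V).range : Set (Hol V)) →
          ∃ k ∈ Cfsg.thompsonSubgroup p ↥K ⊔ (act V).ker, act V k = z ∧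
            (k : G) ∈ centralizer (X : Set G) := by
  set J := Cfsg.thompsonSubgroup p ↥K with hJ
  have hcore : Cfsg.pCore p ((⊤ : Subgroup K).map (act V)) = ⊥ := by
    rw [← MonoidHom.range_eq_map]
    exact pCore_range_eq_bot (act V) hD
  have hff := ff_of_thompson (V := V) (isPSolvable_subgroup hsep ⊤) le_top hVea hcore
  rw [S0603.result ⊤ le_top] at hff
  refine ⟨hff, hX.of_surjective _ (opsHom K X hXK V).rangeRestrict_surjective, ?_, ?_,
    fun hd => hq (hd.trans (Subgroup.card_map_dvd _ _ |>.trans (card_subgroup_dvd_card J))), ?_⟩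
  · refine le_normalizer_of_cj ?_
    rintro - ⟨x, rfl⟩
    refine eq_of_le_of_card_ge ?_ (card_cj _ _).ge
    rintro - ⟨-, ⟨j, hj, rfl⟩, rfl⟩
    refine ⟨K.normalizerMonoidHom (inclusion hXK x) j, ?_, (opsHom_conj_act K X hXK V x j).symm⟩
    exact (characteristic_iff_map_eq.1 (Thompson.thompson_characteristic p ↥K)
      (K.normalizerMonoidHom (inclusion hXK x))).le ⟨j, hj, rfl⟩
  · refine le_normalizer_of_cj ?_
    rintro - ⟨x, rfl⟩
    refine eq_of_le_of_card_ge ?_ (card_cj _ _).ge
    rintro - ⟨-, ⟨v, -, rfl⟩, rfl⟩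
    show MulAut.conj (opsHom K X hXK V x) _ ∈ _
    rw [MulAut.conj_apply, opsHom_conj_inl, inl_mem_emb]
    exact SetLike.coe_mem _
  · intro z hz hzc
    obtain ⟨j, hj, rfl⟩ := hz
    set C := (act V).ker with hC
    set N := C.map K.subtype with hN
    have hCchar : C.Characteristic := by
      rw [hC, act_ker, characteristic_iff_map_le]
      intro φ
      rintro - ⟨c, hc, rfl⟩
      refine mem_centralizer_iff.2 fun v hv => ?_
      obtain ⟨w, hw, rfl⟩ := (characteristic_iff_map_eq.1 hV φ).ge hv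
      exact (map_mul φ w c).symm.trans
        ((congrArg φ (mem_centralizer_iff.1 hc w hw)).trans (map_mul φ c w))
    have hXN : X ≤ normalizer (N : Set G) :=
      Coprime.le_normalizer_map_of_characteristic hXK C hCchar
    have hcop : (Nat.card X).Coprime (Nat.card N) := by
      obtain ⟨n, hn⟩ := IsPGroup.iff_card.1 hX
      rw [hn, card_map_of_injective K.subtype_injective]
      exact (((Fact.out : q.Prime).coprime_iff_not_dvd).2
        fun hd => hq (hd.trans (card_subgroup_dvd_card C))).pow_left n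
    have hk : ∀ x ∈ X, (j : G)⁻¹ * (x * (j : G) * x⁻¹) ∈ N := by
      intro x hx
      refine ⟨j⁻¹ * K.normalizerMonoidHom (inclusion hXK ⟨x, hx⟩) j, ?_, rfl⟩
      rw [SetLike.mem_coe, hC, MonoidHom.mem_ker, map_mul, map_inv, ← opsHom_conj_act]
      rw [mem_centralizer_iff.1 hzc _ ⟨⟨x, hx⟩, rfl⟩, mul_inv_cancel_right, inv_mul_cancel]
    have hsolv : Group.IsSolvable X := Layer.isSolvable_of_isPGroup hX
    obtain ⟨-, ⟨c, hc, rfl⟩, hfix⟩ :=
      Coprime.exists_fixed_mem_leftCoset hXN hcop (Or.inl hsolv) hk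
    refine ⟨j * c, mul_mem_sup hj hc, ?_, hfix⟩
    rw [map_mul, MonoidHom.mem_ker.1 hc, mul_one]

/-- The normal closure of `Ω₁(Z(S))` in `K` satisfies the hypotheses. -/
theorem omegaClosure_setting {M : Type*} [Group M] [Finite M] (hsep : Cfsg.IsPSolvable p M)
    (hO : Cfsg.pPrimeCore p M = ⊥) (V : Subgroup M) [V.Normal]
    (hV : V = ⨆ S : Sylow p M, Cfsg.omegaOne p ((S : Subgroup M) ⊓
      centralizer ((S : Subgroup M) : Set M))) :
    Cfsg.IsElementaryAbelian p V ∧ Cfsg.pCore p (M ⧸ (act V).ker) = ⊥ := by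
  obtain ⟨-, hea, hD⟩ := S0601.result (Layer.pCoreSelfCentral_of_isPSolvable hsep hO)
  rw [← hV] at hea hD
  exact ⟨hea, pCore_quotient_eq_bot (by rw [act_ker]; exact hD)⟩

end Cfsg.Agent.Offender
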