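import Cfsg.Agent.Thompson.Offender.Basic
import Cfsg.Agent.Thompson.Replacement

/-!
Failure of factorization: two lines conjugate under the core span an `E` acting on a plane.
-/

set_option autoImplicit false

namespace Cfsg.Agent.Offender

open Subgroup
open scoped commutatorElement

variable {G : Type*} [Group G]

/-- The subgroup `[O_{p'}(H), A] A`. -/
abbrev blk (p : ℕ) (H A : Subgroup G) : Subgroup G := ⁅core p H, A⁆ ⊔ A

variable [Finite G] {p : ℕ} [Fact p.Prime] {V H A : Subgroup G} (h : FF p V H)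
  (hl : IsLine p V H A)

namespace IsLine

include h hl

omit [Finite G] [Fact p.Prime] in
theorem cj_core {y : G} (hy : y ∈ core p H) : IsLine p V H (cj y A) :=
  hl.conj (FF.core_le hy) (h.core_le_normalizer hy)

omit h in
theorem cj_eq_iff {y : G} (hy : y ∈ core p H) : cj y A = A ↔ y ∈ centralizer (A : Set G) := by
  constructor
  · intro he
    rw [mem_centralizer_iff]
    intro a ha
    have h1 : y * a * y⁻¹ * a⁻¹ ∈ A :=
      A.mul_mem (he.le (mem_cj.2 (by simpa [mul_assoc] using ha))) (A.inv_mem ha)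
    have h2 : y * a * y⁻¹ * a⁻¹ ∈ core p H := by
      have := (mem_normalizer_iff.1 (FF.le_normalizer_core (hl.le ha)) _).1 (inv_mem hy)
      simpa [mul_assoc] using mul_mem hy this
    have h3 : y * a * y⁻¹ * a⁻¹ = 1 := by
      rw [← mem_bot, ← FF.inf_core_eq_bot (H := H) (Thompson.ea_isPGroup hl.ea)]
      exact ⟨h1, h2⟩
    rw [mul_inv_eq_one, mul_inv_eq_iff_eq_mul] at h3
    exact h3.symm
  · intro hy'
    exact cj_eq_self (centralizer_le_normalizer _ hy')

theorem exists_not_centralizes : ∃ x ∈ core p H, x ∉ centralizer (A : Set G) := by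
  refine SetLike.not_le_iff_exists.1 fun hle => hl.ne_bot ?_
  rw [← inf_eq_left.2 (le_centralizer_iff.1 hle)]
  exact h.inf_centralizer_core_eq_bot hl.le (Thompson.ea_isPGroup hl.ea)

/-- Two lines conjugate under the core, one commutator fixed by the other, are equal. -/
theorem eq_of_commutator_le_centralizer {x : G} (hx : x ∈ core p H)
    (hle : ⁅V, A⁆ ≤ centralizer (cj x A : Set G)) : cj x A = A := by
  set B := cj x A with hB
  have hm : IsLine p V H B := hl.cj_core h hx
  set W := ⁅V, A⁆ ⊔ ⁅V, B⁆ with hW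
  have hWV : W ≤ V := sup_le (hl.commutator_le_V h) (hm.commutator_le_V h)
  have hnW : A ⊔ B ≤ stab V W := sup_le
    (le_stab_iff.2 ⟨le_normalizer_iff_commutator_le_left.2
      ((commutator_mono hWV le_rfl).trans le_sup_left), le_sup_left⟩)
    (le_stab_iff.2 ⟨le_normalizer_iff_commutator_le_left.2
      ((commutator_mono hWV le_rfl).trans le_sup_right), le_sup_right⟩)
  have hnz : A ⊔ B ≤ stab W ⁅V, A⁆ := sup_le
    (le_stab_iff.2 ⟨normalizer_commutator_ge_right V A, commutator_mono hWV le_rfl⟩)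
    (le_stab_iff.2 ⟨(le_centralizer_iff.1 hle).trans (centralizer_le_normalizer _), by
      rw [commutator_eq_bot_iff_le_centralizer.2 (sup_le hle (hm.commutator_le_centralizer h))]
      exact bot_le⟩)
  have hcz : A ⊔ B ≤ centralizer ((⁅V, A⁆ : Subgroup G) : Set G) :=
    sup_le (le_centralizer_iff.1 (hl.commutator_le_centralizer h)) (le_centralizer_iff.1 hle)
  obtain ⟨a, -, hza⟩ := exists_gen hl.card_eq
  have ha : a ∈ A := hza ▸ mem_zpowers a
  set q := a⁻¹ * (x * a * x⁻¹) with hq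
  have hqAB : q ∈ A ⊔ B := mul_mem (inv_mem (mem_sup_left ha))
    (mem_sup_right (mem_cj.2 (by simpa [mul_assoc] using ha)))
  have hqQ : q ∈ core p H := by
    have h1 : q = (a⁻¹ * x * a⁻¹⁻¹) * x⁻¹ := by rw [hq, inv_inv]; group
    rw [h1]
    exact mul_mem ((mem_normalizer_iff.1
      (FF.le_normalizer_core (inv_mem (hl.le ha))) _).1 hx) (inv_mem hx)
  have hP : zpowers q ≤ A ⊔ B := zpowers_le.2 hqAB
  have hPV : zpowers q ≤ normalizer (V : Set G) :=
    zpowers_le.2 (h.core_le_normalizer hqQ)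
  have hcop : (Nat.card (zpowers q)).Coprime (Nat.card V) := by
    obtain ⟨n, hn⟩ := IsPGroup.iff_card.1 h.hVp
    rw [hn]
    exact (Nat.Coprime.coprime_dvd_left (card_dvd_of_le (zpowers_le.2 hqQ))
      FF.coprime_core).pow_right n
  have e := Coprime.commutator_commutator_eq hPV hcop (Or.inr
    (have := h.hV.1; Group.isSolvable_of_comm fun u v => IsMulCommutative.is_comm.comm u v))
  have h1 : ⁅V, zpowers q⁆ ≤ ⁅V, A⁆ := by
    rw [← e]
    exact (commutator_mono ((le_stab_iff.1 (hP.trans hnW)).2) le_rfl).trans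
      ((le_stab_iff.1 (hP.trans hnz)).2)
  have h2 : ⁅V, zpowers q⁆ = ⊥ := by
    rw [← e, ← le_bot_iff]
    refine (commutator_mono h1 hP).trans ?_
    rw [le_bot_iff, commutator_eq_bot_iff_le_centralizer, le_centralizer_iff]
    exact hcz
  rw [commutator_eq_bot_iff_le_centralizer, le_centralizer_iff] at h2
  have hq1 := h.eq_one_of_centralizes (FF.core_le hqQ) (h2 (mem_zpowers q))
  rw [hq, inv_mul_eq_one] at hq1
  refine eq_of_le_of_card_ge ?_ (card_cj x A).ge
  rw [hB, cj, ← hza, MonoidHom.map_zpowers, zpowers_le]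
  exact ⟨1, by simpa using hq1⟩

section Pair

variable {x : G} (hx : x ∈ core p H) (hxA : x ∉ centralizer (A : Set G))
include hx hxA

omit h in
theorem cj_ne : cj x A ≠ A := fun he => hxA ((hl.cj_eq_iff hx).1 he)

theorem left_disj : ⁅V, A⁆ ⊓ centralizer (cj x A : Set G) = ⊥ :=
  (inf_eq_bot_or_le (hl.card_commutator h) _).resolve_right fun hle =>
    hl.cj_ne hx hxA (hl.eq_of_commutator_le_centralizer h hx hle)

theorem right_disj : ⁅V, cj x A⁆ ⊓ centralizer (A : Set G) = ⊥ := by
  have hm := hl.cj_core h hx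
  refine (inf_eq_bot_or_le (hm.card_commutator h) _).resolve_right fun hle => hl.cj_ne hx hxA ?_
  have h2 : cj x⁻¹ (cj x A) = A := by rw [cj_cj, inv_mul_cancel, cj_one]
  have := hm.eq_of_commutator_le_centralizer h (inv_mem hx) (by rw [h2]; exact hle)
  rw [h2] at this
  exact this.symm

theorem card_plane : Nat.card (⁅V, A⁆ ⊔ ⁅V, cj x A⁆ : Subgroup G) = p ^ 2 := by
  have hm := hl.cj_core h hx
  have hd : ⁅V, A⁆ ⊓ ⁅V, cj x A⁆ = ⊥ := by
    rw [← le_bot_iff, ← hl.left_disj h hx hxA]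
    exact inf_le_inf_left _ (hm.commutator_le_centralizer h)
  have hc := Thompson.card_sup_mul_card_inf_of_comm
    ((hl.commutator_le_V h).trans (h.hVc.trans (centralizer_le (hm.commutator_le_V h))))
  rw [hd, card_bot, mul_one, hl.card_commutator h, hm.card_commutator h, ← sq] at hc
  exact hc

omit hxA in
theorem plane_le : ⁅V, A⁆ ⊔ ⁅V, cj x A⁆ ≤ V :=
  sup_le (hl.commutator_le_V h) ((hl.cj_core h hx).commutator_le_V h)

omit hxA in
theorem mem_plane {w : G} (hw : w ∈ ⁅V, A⁆ ⊔ ⁅V, cj x A⁆) :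
    ∃ u ∈ ⁅V, A⁆, ∃ v ∈ ⁅V, cj x A⁆, u * v = w := by
  rw [← SetLike.mem_coe, coe_mul_of_right_le_normalizer_left _ _
    (((hl.cj_core h hx).commutator_le_V h).trans ((h.hVc.trans
      (centralizer_le (hl.commutator_le_V h))).trans (centralizer_le_normalizer _)))] at hw
  exact hw

theorem plane_inf_centralizer :
    (⁅V, A⁆ ⊔ ⁅V, cj x A⁆) ⊓ centralizer ((A ⊔ cj x A : Subgroup G) : Set G) = ⊥ := by
  rw [eq_bot_iff]
  rintro w ⟨hw, hwc⟩
  rw [Thompson.centralizer_sup] at hwc
  obtain ⟨u, hu, v, hv, rfl⟩ := hl.mem_plane h hx hw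
  have hu' : u ∈ centralizer (A : Set G) := hl.commutator_le_centralizer h hu
  have hv1 : v = 1 := by
    rw [← mem_bot, ← hl.right_disj h hx hxA]
    exact ⟨hv, ((centralizer (A : Set G)).mul_mem_cancel_left hu').1 hwc.1⟩
  subst hv1
  rw [← hl.left_disj h hx hxA]
  exact ⟨by simpa using hu, hwc.2⟩

theorem card_fix_pair :
    p ^ 2 * Nat.card (V ⊓ centralizer ((A ⊔ cj x A : Subgroup G) : Set G) : Subgroup G) =
      Nat.card V ∧
    (⁅V, A⁆ ⊔ ⁅V, cj x A⁆) ⊔ (V ⊓ centralizer ((A ⊔ cj x A : Subgroup G) : Set G)) = V := by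
  set W := ⁅V, A⁆ ⊔ ⁅V, cj x A⁆ with hW
  set C := V ⊓ centralizer ((A ⊔ cj x A : Subgroup G) : Set G) with hC
  have hm := hl.cj_core h hx
  have hWV : W ≤ V := hl.plane_le h hx
  set c₁ := V ⊓ centralizer (A : Set G) with hc₁
  set c₂ := V ⊓ centralizer (cj x A : Set G) with hc₂
  have hCc : C = c₁ ⊓ c₂ := by rw [hC, Thompson.centralizer_sup, hc₁, hc₂, ← inf_inf_distrib_left]
  have hdisj : W ⊓ C = ⊥ := by
    rw [← le_bot_iff, ← hl.plane_inf_centralizer h hx hxA]
    exact inf_le_inf_left _ inf_le_right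
  have e1 := Thompson.card_sup_mul_card_inf_of_comm
    (hWV.trans (h.hVc.trans (centralizer_le (inf_le_left : C ≤ V))))
  rw [hdisj, card_bot, mul_one, hl.card_plane h hx hxA] at e1
  have e2 := Thompson.card_sup_mul_card_inf_of_comm
    ((inf_le_left : c₁ ≤ V).trans (h.hVc.trans (centralizer_le (inf_le_left : c₂ ≤ V))))
  rw [← hCc] at e2
  have hge : Nat.card V ≤ p ^ 2 * Nat.card C := by
    refine Nat.le_of_mul_le_mul_left (?_ : Nat.card V * Nat.card V ≤ Nat.card V * _) Nat.card_pos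
    calc Nat.card V * Nat.card V = (Nat.card c₁ * Nat.card c₂) * p ^ 2 := by
          nlinarith [hl.card_fix, hm.card_fix]
      _ ≤ Nat.card V * Nat.card C * p ^ 2 := by
          rw [← e2]
          exact Nat.mul_le_mul_right _ (Nat.mul_le_mul_right _
            (card_le_of_le (sup_le inf_le_left inf_le_left)))
      _ = Nat.card V * (p ^ 2 * Nat.card C) := by ring
  have hsup : W ⊔ C = V := eq_of_le_of_card_ge (sup_le hWV inf_le_left) (e1 ▸ hge)
  exact ⟨e1.symm.trans (by rw [hsup]), hsup⟩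

omit hxA in
theorem commutator_pair : ⁅V, A ⊔ cj x A⁆ = ⁅V, A⁆ ⊔ ⁅V, cj x A⁆ := by
  refine le_antisymm (le_stab_iff.1 (sup_le ?_ ?_)).2
    (sup_le (commutator_mono le_rfl le_sup_left) (commutator_mono le_rfl le_sup_right))
  · exact le_stab_iff.2 ⟨le_normalizer_iff_commutator_le_left.2
      ((commutator_mono (hl.plane_le h hx) le_rfl).trans le_sup_left), le_sup_left⟩
  · exact le_stab_iff.2 ⟨le_normalizer_iff_commutator_le_left.2
      ((commutator_mono (hl.plane_le h hx) le_rfl).trans le_sup_right), le_sup_right⟩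

omit hxA in
theorem pair_le : A ⊔ cj x A ≤ H := sup_le hl.le (hl.cj_core h hx).le

theorem pair_faithful :
    (A ⊔ cj x A) ⊓ centralizer ((⁅V, A⁆ ⊔ ⁅V, cj x A⁆ : Subgroup G) : Set G) = ⊥ := by
  refine h.eq_bot_of_le_centralizer (inf_le_left.trans (hl.pair_le h hx)) ?_
  rw [le_centralizer_iff]
  conv_lhs => rw [← (hl.card_fix_pair h hx hxA).2]
  exact sup_le (le_centralizer_iff.1 inf_le_right)
    (inf_le_right.trans (centralizer_le inf_le_left))

theorem exists_line_of_le_plane {w : Subgroup G} (hwW : w ≤ ⁅V, A⁆ ⊔ ⁅V, cj x A⁆)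
    (hw : Nat.card w = p) :
    ∃ y ∈ core p H, cj y A ≤ A ⊔ cj x A ∧ w = ⁅V, cj y A⁆ := by
  by_cases hwA : w ≤ ⁅V, A⁆
  · refine ⟨1, one_mem _, by rw [cj_one]; exact le_sup_left, ?_⟩
    rw [cj_one]
    exact eq_of_le_of_card_ge hwA (by rw [hw, hl.card_commutator h])
  obtain ⟨t, htw, ht⟩ := SetLike.not_le_iff_exists.1 hwA
  obtain ⟨u, hu, v, hv, rfl⟩ := hl.mem_plane h hx (hwW htw)
  obtain ⟨a, -, hza⟩ := exists_gen hl.card_eq
  have ha : a ∈ A := hza ▸ mem_zpowers a
  have hm := hl.cj_core h hx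
  set s := ⁅a, v⁆ with hs
  have hsA : s ∈ ⁅V, A⁆ := by
    rw [commutator_comm]
    exact commutator_mem_commutator ha (hm.commutator_le_V h hv)
  have hs1 : s ≠ 1 := fun h0 => ht (by
    have hvc : v ∈ centralizer (A : Set G) := by
      rw [← hza]
      exact mem_centralizer_zpowers.2 (commutatorElement_eq_one_iff_mul_comm.1 h0)
    have : v = 1 := by rw [← mem_bot, ← hl.right_disj h hx hxA]; exact ⟨hv, hvc⟩
    rw [this, mul_one]; exact hu)
  obtain ⟨n, hn⟩ := mem_powers_iff_mem_zpowers.2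
    ((zpowers_eq_of_card (hl.card_commutator h) hsA hs1).ge hu)
  have hpow : ∀ k : ℕ, a ^ k * v * (a ^ k)⁻¹ = s ^ k * v := by
    intro k
    induction k with
    | zero => simp
    | succ k ih =>
      have hc : Commute a (s ^ k) :=
        (show Commute a s from
          mem_centralizer_iff.1 (hl.commutator_le_centralizer h hsA) a ha).pow_right k
      calc a ^ (k + 1) * v * (a ^ (k + 1))⁻¹ = a * (a ^ k * v * (a ^ k)⁻¹) * a⁻¹ := by
            rw [pow_succ']; group
        _ = a * s ^ k * v * a⁻¹ := by rw [ih]; group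
        _ = s ^ k * a * v * a⁻¹ := by rw [hc.eq]
        _ = s ^ (k + 1) * v := by rw [pow_succ, hs, commutatorElement_def]; group
  have hn' : s ^ n = u := hn
  set c := a ^ n with hc
  have hcA : c ∈ A := pow_mem ha n
  have hy : c * x * c⁻¹ ∈ core p H :=
    (mem_normalizer_iff.1 (FF.le_normalizer_core (hl.le hcA)) _).1 hx
  have hcj : cj (c * x * c⁻¹) A = cj c (cj x A) := by
    rw [← cj_cj, ← cj_cj, cj_eq_self (le_normalizer (inv_mem hcA))]
  refine ⟨_, hy, ?_, ?_⟩
  · rw [hcj]
    exact (cj_mono le_sup_right).trans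
      (cj_eq_self (le_normalizer (mem_sup_left hcA))).le
  · rw [hcj, ← cj_commutator_left (hl.le_normalizer_V h hcA)]
    have hmem : u * v ∈ cj c ⁅V, cj x A⁆ := by
      refine mem_cj.2 ?_
      rw [← hn', ← hpow n, ← hc]
      simpa [mul_assoc] using hv
    have hne : u * v ≠ 1 := fun h0 => ht (by rw [h0]; exact one_mem _)
    rw [← zpowers_eq_of_card hw htw hne,
      ← zpowers_eq_of_card ((card_cj _ _).trans (hm.card_commutator h)) hmem hne]

theorem cj_le_pair {y : G} (hy : y ∈ core p H) : cj y A ≤ A ⊔ cj x A := by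
  set C := cj y A with hC
  have hm := hl.cj_core h hy
  set W := ⁅V, A⁆ ⊔ ⁅V, cj x A⁆ with hW
  have hWV : W ≤ V := hl.plane_le h hx
  set c := V ⊓ centralizer (C : Set G) with hc
  have hne : c ⊓ W ≠ ⊥ := fun h0 => by
    have e := Thompson.card_sup_mul_card_inf_of_comm
      ((inf_le_left : c ≤ V).trans (h.hVc.trans (centralizer_le hWV)))
    rw [h0, card_bot, mul_one, hl.card_plane h hx hxA] at e
    have hle : Nat.card c * p ^ 2 ≤ Nat.card V := e ▸ card_le_of_le (sup_le inf_le_left hWV)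
    rw [← hm.card_fix] at hle
    have := Nat.le_of_mul_le_mul_left hle Nat.card_pos
    nlinarith [(Fact.out : p.Prime).two_le]
  obtain ⟨t, ht, ht1⟩ := exists_ne_one_of_ne_bot hne
  have hcard : Nat.card (zpowers t) = p := by
    rw [Nat.card_zpowers]
    exact orderOf_eq_prime ((Thompson.ea_iff.1 h.hV).2 t (hWV ht.2)) ht1
  obtain ⟨y', hy', hle, he⟩ := hl.exists_line_of_le_plane h hx hxA (zpowers_le.2 ht.2) hcard
  have hD := hl.cj_core h hy'
  have hCD : C = cj (y * y'⁻¹) (cj y' A) := by rw [cj_cj, inv_mul_cancel_right]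
  have := hD.eq_of_commutator_le_centralizer h (mul_mem hy (inv_mem hy'))
    (by rw [← he, ← hCD, zpowers_le]; exact ht.1.2)
  rw [← hCD] at this
  exact this.trans_le hle

theorem blk_eq : blk p H A = A ⊔ cj x A := by
  refine le_antisymm (sup_le ?_ le_sup_left) (sup_le le_sup_right ?_)
  · rw [commutator_le]
    intro y hy a ha
    rw [commutatorElement_def]
    exact mul_mem (hl.cj_le_pair h hx hxA hy (mem_cj.2 (by simpa [mul_assoc] using ha)))
      (inv_mem (mem_sup_left ha))
  · rintro - ⟨a, ha, rfl⟩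
    have h1 : MulAut.conj x a = ⁅x, a⁆ * a := conj_eq_commutatorElement_mul
    exact h1 ▸ mul_mem (mem_sup_left (commutator_mem_commutator hx ha)) (mem_sup_right ha)

end Pair

/- Properties of `blk` not mentioning a second line. -/

theorem blk_le : blk p H A ≤ H :=
  sup_le ((commutator_mono FF.core_le hl.le).trans (commutator_le_self H)) hl.le

omit h hl [Fact p.Prime] [Finite G] in
theorem commutator_core_le (hA : A ≤ H) : ⁅core p H, A⁆ ≤ core p H :=
  le_normalizer_iff_commutator_le_left.1 (hA.trans FF.le_normalizer_core)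

theorem blk_inf_core : blk p H A ⊓ core p H = ⁅core p H, A⁆ := by
  refine le_antisymm ?_ (le_inf le_sup_left (commutator_core_le hl.le))
  rintro q ⟨hq, hqQ⟩
  change q ∈ ⁅core p H, A⁆ ⊔ A at hq
  change q ∈ core p H at hqQ
  rw [← SetLike.mem_coe, coe_mul_of_right_le_normalizer_left _ _
    (normalizer_commutator_ge_right (core p H) A)] at hq
  obtain ⟨r, hr, a, ha, rfl⟩ := hq
  have ha1 : a = 1 := by
    rw [← mem_bot, ← FF.inf_core_eq_bot (H := H) (Thompson.ea_isPGroup hl.ea)]
    exact ⟨ha, ((core p H).mul_mem_cancel_left (commutator_core_le hl.le hr)).1 hqQ⟩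
  subst ha1
  simpa using hr

omit h hl [Fact p.Prime] [Finite G] in
theorem cj_blk {y : G} (hy : y ∈ H) : cj y (blk p H A) = blk p H (cj y A) := by
  refine (Subgroup.map_sup _ _ _).trans ?_
  rw [map_commutator]
  congr 2
  exact cj_eq_self (FF.le_normalizer_core hy)

theorem cj_blk_eq {y : G} (hy : y ∈ core p H) : cj y (blk p H A) = blk p H A := by
  obtain ⟨x, hx, hxA⟩ := hl.exists_not_centralizes h
  refine eq_of_le_of_card_ge ?_ (card_cj _ _).ge
  conv_lhs => rw [hl.blk_eq h hx hxA]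
  refine (Subgroup.map_sup _ _ _).trans_le (sup_le ?_ ?_)
  · rw [hl.blk_eq h hx hxA]
    exact hl.cj_le_pair h hx hxA hy
  · rw [hl.blk_eq h hx hxA]
    exact (cj_cj y x A).trans_le (hl.cj_le_pair h hx hxA (mul_mem hy hx))

theorem core_le_normalizer_blk : core p H ≤ normalizer (blk p H A : Set G) := fun y hy => by
  rw [mem_normalizer_iff]
  intro z
  conv_rhs => rw [← hl.cj_blk_eq h hy, mem_cj]
  simp [mul_assoc]

theorem blk_cj {y : G} (hy : y ∈ core p H) : blk p H (cj y A) = blk p H A := by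
  rw [← cj_blk (FF.core_le hy), hl.cj_blk_eq h hy]

theorem card_blk_commutator : Nat.card (⁅V, blk p H A⁆ : Subgroup G) = p ^ 2 := by
  obtain ⟨x, hx, hxA⟩ := hl.exists_not_centralizes h
  rw [hl.blk_eq h hx hxA, hl.commutator_pair h hx, hl.card_plane h hx hxA]

theorem blk_commutator_inf :
    ⁅V, blk p H A⁆ ⊓ (V ⊓ centralizer (blk p H A : Set G)) = ⊥ := by
  obtain ⟨x, hx, hxA⟩ := hl.exists_not_centralizes h
  rw [← le_bot_iff, hl.blk_eq h hx hxA, hl.commutator_pair h hx,
    ← hl.plane_inf_centralizer h hx hxA]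
  exact inf_le_inf_left _ inf_le_right

theorem blk_commutator_sup :
    ⁅V, blk p H A⁆ ⊔ (V ⊓ centralizer (blk p H A : Set G)) = V := by
  obtain ⟨x, hx, hxA⟩ := hl.exists_not_centralizes h
  rw [hl.blk_eq h hx hxA, hl.commutator_pair h hx, (hl.card_fix_pair h hx hxA).2]

theorem card_blk_fix :
    p ^ 2 * Nat.card (V ⊓ centralizer (blk p H A : Set G) : Subgroup G) = Nat.card V := by
  obtain ⟨x, hx, hxA⟩ := hl.exists_not_centralizes h
  rw [hl.blk_eq h hx hxA, (hl.card_fix_pair h hx hxA).1]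

theorem blk_faithful :
    blk p H A ⊓ centralizer ((⁅V, blk p H A⁆ : Subgroup G) : Set G) = ⊥ := by
  obtain ⟨x, hx, hxA⟩ := hl.exists_not_centralizes h
  rw [hl.blk_eq h hx hxA, hl.commutator_pair h hx, hl.pair_faithful h hx hxA]

theorem core_le_normalizer_blk_commutator :
    core p H ≤ normalizer ((⁅V, blk p H A⁆ : Subgroup G) : Set G) := fun y hy => by
  rw [mem_normalizer_iff]
  intro z
  have he : cj y ⁅V, blk p H A⁆ = ⁅V, blk p H A⁆ := by
    rw [cj_commutator_left (h.core_le_normalizer hy), hl.cj_blk_eq h hy]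
  conv_rhs => rw [← he, mem_cj]
  simp [mul_assoc]

theorem exists_line_of_le {w : Subgroup G} (hwW : w ≤ ⁅V, blk p H A⁆) (hw : Nat.card w = p) :
    ∃ y ∈ core p H, cj y A ≤ blk p H A ∧ w = ⁅V, cj y A⁆ := by
  obtain ⟨x, hx, hxA⟩ := hl.exists_not_centralizes h
  rw [hl.blk_eq h hx hxA] at hwW ⊢
  rw [hl.commutator_pair h hx] at hwW
  exact hl.exists_line_of_le_plane h hx hxA hwW hw

/-- The core acts irreducibly on the plane. -/
theorem eq_bot_or_eq {U : Subgroup G} (hU : U ≤ ⁅V, blk p H A⁆)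
    (hQU : core p H ≤ normalizer (U : Set G)) : U = ⊥ ∨ U = ⁅V, blk p H A⁆ := by
  by_cases h0 : U = ⊥
  · exact Or.inl h0
  right
  obtain ⟨t, ht, ht1⟩ := exists_ne_one_of_ne_bot h0
  have hWV : ⁅V, blk p H A⁆ ≤ V :=
    le_normalizer_iff_commutator_le_left.1 ((hl.blk_le h).trans h.hHV)
  have hcard : Nat.card (zpowers t) = p := by
    rw [Nat.card_zpowers]
    exact orderOf_eq_prime ((Thompson.ea_iff.1 h.hV).2 t (hWV (hU ht))) ht1
  obtain ⟨y, hy, -, he⟩ := hl.exists_line_of_le h (zpowers_le.2 (hU ht)) hcard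
  have hm := hl.cj_core h hy
  obtain ⟨x, hx, hxm⟩ := hm.exists_not_centralizes h
  refine le_antisymm hU ?_
  rw [← hl.blk_cj h hy, hm.blk_eq h hx hxm, hm.commutator_pair h hx]
  have h1 : ⁅V, cj y A⁆ ≤ U := he ▸ zpowers_le.2 ht
  refine sup_le h1 ?_
  rw [← cj_commutator_left (h.core_le_normalizer hx)]
  exact (cj_mono h1).trans (cj_eq_self (hQU hx)).le

theorem commutator_core_ne_bot : ⁅core p H, A⁆ ≠ ⊥ := fun h0 => by
  rw [commutator_eq_bot_iff_le_centralizer, le_centralizer_iff] at h0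
  exact hl.ne_bot (by
    rw [← inf_eq_left.2 h0]
    exact h.inf_centralizer_core_eq_bot hl.le (Thompson.ea_isPGroup hl.ea))

/-- The fixed points of `[Q, A]` are those of the whole block. -/
theorem fix_commutator_core :
    V ⊓ centralizer ((⁅core p H, A⁆ : Subgroup G) : Set G) =
      V ⊓ centralizer (blk p H A : Set G) := by
  refine le_antisymm ?_ (cap_centralizer_of_le le_sup_left)
  set W := ⁅V, blk p H A⁆ with hW
  set C := V ⊓ centralizer (blk p H A : Set G) with hC
  set R := ⁅core p H, A⁆ with hR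
  have hRne : R ≠ ⊥ := hl.commutator_core_ne_bot h
  have hWR : W ⊓ centralizer (R : Set G) = ⊥ := by
    refine (hl.eq_bot_or_eq h inf_le_left (Coprime.le_normalizer_inf
      (hl.core_le_normalizer_blk_commutator h)
      (Coprime.le_normalizer_centralizer (normalizer_commutator_ge_left _ _)))).resolve_right ?_
    intro he
    refine hRne (le_bot_iff.1 ?_)
    rw [← hl.blk_faithful h]
    exact le_inf le_sup_left (le_centralizer_iff.1 (inf_eq_left.1 he))
  rintro v ⟨hvV, hvR⟩
  have hCV : C ≤ normalizer (W : Set G) :=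
    inf_le_left.trans ((h.hVc.trans (centralizer_le
      (le_normalizer_iff_commutator_le_left.1 ((hl.blk_le h).trans h.hHV)))).trans
      (centralizer_le_normalizer _))
  have hvV' : v ∈ W ⊔ C := (hl.blk_commutator_sup h).ge hvV
  rw [← SetLike.mem_coe, coe_mul_of_right_le_normalizer_left _ _ hCV] at hvV'
  obtain ⟨w, hw, c, hc, rfl⟩ := hvV'
  have hcR : c ∈ centralizer (R : Set G) := centralizer_le (le_sup_left : R ≤ blk p H A) hc.2
  have hw1 : w = 1 := by
    rw [← mem_bot, ← hWR]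
    exact ⟨hw, ((centralizer (R : Set G)).mul_mem_cancel_right hcR).1 hvR⟩
  subst hw1
  simpa using hc

theorem blk_commutator_le_core : ⁅V, blk p H A⁆ ≤ ⁅V, core p H⁆ := by
  set R := ⁅core p H, A⁆ with hR
  have hRQ : R ≤ core p H := commutator_core_le hl.le
  refine le_trans ?_ (commutator_mono le_rfl hRQ)
  refine ((hl.eq_bot_or_eq h (commutator_mono le_rfl le_sup_left) ?_).resolve_left fun h0 => ?_).ge
  · intro y hy
    rw [mem_normalizer_iff]
    intro z
    have he : cj y ⁅V, R⁆ = ⁅V, R⁆ := by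
      rw [cj_commutator_left (h.core_le_normalizer hy),
        cj_eq_self (normalizer_commutator_ge_left (core p H) A hy)]
    conv_rhs => rw [← he, mem_cj]
    simp [hR, mul_assoc]
  · exact hl.commutator_core_ne_bot h (h.eq_bot_of_le_centralizer (hRQ.trans FF.core_le)
      (le_centralizer_iff.1 (commutator_eq_bot_iff_le_centralizer.1 h0)))

end IsLine

end Cfsg.Agent.Offender
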