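import Cfsg.Agent.Thompson.Offender.Pair
import Cfsg.Agent.Classical.SL2Gen
import Cfsg.Agent.Classical.LinearBasic

/-!
Failure of factorization: a block is `SL(2, p)` on its plane and `p ≤ 3`.
-/

set_option autoImplicit false

namespace Cfsg.Agent.Offender

open Subgroup
open scoped commutatorElement MatrixGroups

variable {G : Type*} [Group G] {p : ℕ} [Fact p.Prime]

/-- The element with coordinates `w` in a basis `u, v`. -/
def coord (u v : G) (w : Fin 2 → ZMod p) : G := u ^ (w 0).val * v ^ (w 1).val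

theorem coord_add {u v : G} (hu : u ^ p = 1) (hv : v ^ p = 1) (huv : Commute u v)
    (w w' : Fin 2 → ZMod p) : coord u v (w + w') = coord u v w * coord u v w' := by
  rw [coord, coord, coord, Pi.add_apply, Pi.add_apply, ZMod.val_add, ZMod.val_add,
    ← pow_eq_pow_mod _ hu, ← pow_eq_pow_mod _ hv, pow_add, pow_add,
    (huv.pow_pow (w' 0).val (w 1).val).mul_mul_mul_comm]

theorem coord_zero (u v : G) : coord (p := p) u v 0 = 1 := by simp [coord]

theorem coord_nsmul {u v : G} (hu : u ^ p = 1) (hv : v ^ p = 1) (huv : Commute u v) (n : ℕ)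
    (w : Fin 2 → ZMod p) : coord u v (n • w) = coord u v w ^ n := by
  induction n with
  | zero => rw [zero_smul, pow_zero, coord_zero]
  | succ n ih => rw [succ_nsmul, coord_add hu hv huv, ih, pow_succ]

theorem coord_smul {u v : G} (hu : u ^ p = 1) (hv : v ^ p = 1) (huv : Commute u v) (c : ZMod p)
    (w : Fin 2 → ZMod p) : coord u v (c • w) = coord u v w ^ c.val := by
  rw [← coord_nsmul hu hv huv, ← Nat.cast_smul_eq_nsmul (ZMod p), ZMod.natCast_zmod_val]

theorem coord_natCast {u v : G} (hv : v ^ p = 1) (n : ℕ) :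
    coord (p := p) u v ![1, (n : ZMod p)] = u * v ^ n := by
  simp [coord, ZMod.val_one, ZMod.val_natCast, ← pow_eq_pow_mod n hv]

theorem exists_noncommuting : ∃ M₁ M₂ : SL(2, ZMod 3), M₁ ^ 4 = 1 ∧ M₂ ^ 4 = 1 ∧ M₁ * M₂ ≠ M₂ * M₁ :=
  ⟨⟨!![0, 1; -1, 0], by decide⟩, ⟨!![1, 1; 1, -1], by decide⟩, by decide, by decide, by decide⟩

variable [Finite G] {V H A : Subgroup G}

namespace IsLine

variable (h : FF p V H) (hl : IsLine p V H A)
include h hl

theorem exists_iso : Nonempty ((blk p H A : Subgroup G) ≃* SL(2, ZMod p)) := by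
  obtain ⟨x, hx, hxA⟩ := hl.exists_not_centralizes h
  have hm := hl.cj_core h hx
  obtain ⟨a, ha1, hza⟩ := exists_gen hl.card_eq
  obtain ⟨v, hv1, hzv⟩ := exists_gen (hm.card_commutator h)
  have ha : a ∈ A := hza ▸ mem_zpowers a
  have hvB : v ∈ ⁅V, cj x A⁆ := hzv ▸ mem_zpowers v
  set b := x * a * x⁻¹ with hb
  have hzb : zpowers b = cj x A := by
    rw [cj, ← hza, MonoidHom.map_zpowers]; rfl
  have hbB : b ∈ cj x A := hzb ▸ mem_zpowers b
  set u := ⁅a, v⁆ with hu
  have huA : u ∈ ⁅V, A⁆ := by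
    rw [commutator_comm]
    exact commutator_mem_commutator ha (hm.commutator_le_V h hvB)
  have hu1 : u ≠ 1 := fun h0 => hv1 (by
    rw [← mem_bot, ← hl.right_disj h hx hxA]
    refine ⟨hvB, ?_⟩
    rw [← hza]
    exact mem_centralizer_zpowers.2 (commutatorElement_eq_one_iff_mul_comm.1 h0))
  have hzu := zpowers_eq_of_card (hl.card_commutator h) huA hu1
  have huV : u ∈ V := hl.commutator_le_V h huA
  have hvV : v ∈ V := hm.commutator_le_V h hvB
  have hup : u ^ p = 1 := (Thompson.ea_iff.1 h.hV).2 u huV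
  have hvp : v ^ p = 1 := (Thompson.ea_iff.1 h.hV).2 v hvV
  have huv : Commute u v := mem_centralizer_iff.1 (h.hVc hvV) u huV
  have hbu : b * u * b⁻¹ * u⁻¹ ∈ ⁅V, cj x A⁆ := by
    rw [commutator_comm]
    exact commutator_mem_commutator hbB huV
  obtain ⟨t, ht⟩ := mem_powers_iff_mem_zpowers.2 (hzv.ge hbu)
  have ht' : v ^ t = b * u * b⁻¹ * u⁻¹ := ht
  have htne : (t : ZMod p) ≠ 0 := fun h0 => hu1 (by
    rw [ZMod.natCast_eq_zero_iff] at h0
    obtain ⟨k, rfl⟩ := h0
    rw [pow_mul, hvp, one_pow, eq_comm, mul_inv_eq_one, mul_inv_eq_iff_eq_mul] at ht'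
    rw [← mem_bot, ← hl.left_disj h hx hxA]
    exact ⟨huA, by rw [← hzb]; exact mem_centralizer_zpowers.2 ht'⟩)
  set W := ⁅V, A⁆ ⊔ ⁅V, cj x A⁆ with hW
  set X := A ⊔ cj x A with hX
  rw [hl.blk_eq h hx hxA]
  set ι : (Fin 2 → ZMod p) → G := coord u v with hι
  have hιW : ∀ z ∈ W, ∃ w, ι w = z := by
    intro z hz
    obtain ⟨z₁, hz₁, z₂, hz₂, rfl⟩ := hl.mem_plane h hx hz
    obtain ⟨i, hi⟩ := mem_powers_iff_mem_zpowers.2 (hzu.ge hz₁)
    obtain ⟨j, hj⟩ := mem_powers_iff_mem_zpowers.2 (hzv.ge hz₂)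
    refine ⟨![(i : ZMod p), (j : ZMod p)], ?_⟩
    simp only [hι, coord, Matrix.cons_val_zero, Matrix.cons_val_one, ZMod.val_natCast]
    rw [← pow_eq_pow_mod _ hup, ← pow_eq_pow_mod _ hvp]
    exact congrArg₂ (· * ·) hi hj
  have hιmem : ∀ w, ι w ∈ W := fun w =>
    mul_mem (mem_sup_left (pow_mem huA _)) (mem_sup_right (pow_mem hvB _))
  have hιinj : Function.Injective ι := by
    intro w w' he
    have h0 : ι (w - w') = 1 := by
      have := coord_add hup hvp huv (w - w') w'
      rw [sub_add_cancel] at this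
      rw [← hι, he] at this
      exact right_eq_mul.1 this
    have hu0 : u ^ (((w - w') 0)).val = 1 := by
      rw [← mem_bot, ← hl.left_disj h hx hxA]
      refine ⟨pow_mem huA _, ?_⟩
      rw [eq_inv_of_mul_eq_one_left (show u ^ _ * v ^ _ = 1 from h0)]
      exact (centralizer _).inv_mem
        ((centralizer _).pow_mem (hm.commutator_le_centralizer h hvB) _)
    have hv0 : v ^ (((w - w') 1)).val = 1 := by
      have h1 : u ^ _ * v ^ _ = 1 := h0
      rwa [hu0, one_mul] at h1
    have key : ∀ (z : G), z ≠ 1 → z ^ p = 1 → ∀ c : ZMod p, z ^ c.val = 1 → c = 0 := by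
      intro z hz hzp c hc
      have := orderOf_dvd_of_pow_eq_one hc
      rw [orderOf_eq_prime hzp hz] at this
      rw [← ZMod.natCast_zmod_val c, ZMod.natCast_eq_zero_iff]
      exact this
    funext i
    refine sub_eq_zero.1 ?_
    fin_cases i
    · exact key u hu1 hup _ hu0
    · exact key v hv1 hvp _ hv0
  have hXW : X ≤ normalizer (W : Set G) := by
    rw [hW, ← hl.commutator_pair h hx]
    exact normalizer_commutator_ge_right V X
  let e : Fin 2 → Fin 2 → ZMod p := fun j => Pi.single j 1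
  let M : X → Matrix (Fin 2) (Fin 2) (ZMod p) := fun g =>
    Matrix.of fun i j => Function.invFun ι ((g : G) * ι (e j) * (g : G)⁻¹) i
  have hcol : ∀ (g : X) (j : Fin 2), ι (fun i => M g i j) = (g : G) * ι (e j) * (g : G)⁻¹ :=
    fun g j => Function.invFun_eq (hιW _ ((mem_normalizer_iff.1 (hXW g.2) _).1 (hιmem _)))
  have hact : ∀ (g : X) (w : Fin 2 → ZMod p),
      ι (Matrix.mulVec (M g) w) = (g : G) * ι w * (g : G)⁻¹ := by
    intro g w
    have h1 : Matrix.mulVec (M g) w = w 0 • (fun i => M g i 0) + w 1 • (fun i => M g i 1) := by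
      funext i
      simp [Matrix.mulVec, dotProduct, Fin.sum_univ_two, mul_comm]
    have h2 : w = w 0 • e 0 + w 1 • e 1 := by
      funext i
      fin_cases i <;> simp [e]
    conv_rhs => rw [h2]
    rw [h1, hι, coord_add hup hvp huv, coord_add hup hvp huv, coord_smul hup hvp huv,
      coord_smul hup hvp huv, coord_smul hup hvp huv, coord_smul hup hvp huv, ← hι, hcol, hcol,
      conj_pow, conj_pow]
    group
  have hmul : ∀ g g' : X, M (g * g') = M g * M g' := by
    intro g g'
    refine Matrix.ext_of_mulVec_single fun j => hιinj ?_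
    rw [← Matrix.mulVec_mulVec, hact, hact, hact, Subgroup.coe_mul]
    group
  have hone : M 1 = 1 := by
    refine Matrix.ext_of_mulVec_single fun j => hιinj ?_
    rw [hact, Matrix.one_mulVec]
    simp
  let F : X →* Matrix (Fin 2) (Fin 2) (ZMod p) :=
    { toFun := M, map_one' := hone, map_mul' := hmul }
  set a' : X := ⟨a, mem_sup_left ha⟩ with ha'
  set b' : X := ⟨b, mem_sup_right hbB⟩ with hb'
  have hau : a * u * a⁻¹ = u := by
    have := mem_centralizer_iff.1 (hl.commutator_le_centralizer h huA) a ha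
    rw [this, mul_inv_cancel_right]
  have hbv : b * v * b⁻¹ = v := by
    have := mem_centralizer_iff.1 (hm.commutator_le_centralizer h hvB) b hbB
    rw [this, mul_inv_cancel_right]
  have hMa : M a' = !![1, 1; 0, 1] := by
    refine Matrix.ext_of_mulVec_single fun j => hιinj ?_
    rw [hact]
    fin_cases j <;> simp [hι, coord, ha', hau, ZMod.val_one]
    rw [hu, commutatorElement_def]; group
  have hMb : M b' = !![1, 0; (t : ZMod p), 1] := by
    refine Matrix.ext_of_mulVec_single fun j => hιinj ?_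
    rw [hact]
    fin_cases j
    · simp [hι, coord, hb', ZMod.val_one, ZMod.val_natCast, ← pow_eq_pow_mod t hvp]
      rw [huv.pow_right t |>.eq, ht']
      group
    · simp [hι, coord, hb', hbv, ZMod.val_one]
  have hgen : Subgroup.closure {a', b'} = (⊤ : Subgroup X) := by
    refine map_injective X.subtype_injective ?_
    rw [MonoidHom.map_closure, ← MonoidHom.range_eq_map, range_subtype, Set.image_pair]
    refine le_antisymm ((closure_le _).2 ?_) (sup_le ?_ ?_)
    · rintro z (rfl | rfl)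
      · exact a'.2
      · exact b'.2
    · rw [← hza, zpowers_le]
      exact Subgroup.subset_closure (Or.inl rfl)
    · rw [← hzb, zpowers_le]
      exact Subgroup.subset_closure (Or.inr rfl)
  have hdet : ∀ g : X, (F g).det = 1 := by
    intro g
    have hg : g ∈ Subgroup.closure {a', b'} := hgen ▸ mem_top g
    induction hg using Subgroup.closure_induction with
    | mem z hz =>
      rcases hz with rfl | rfl
      · show (M a').det = 1; rw [hMa, Matrix.det_fin_two_of]; ring
      · show (M b').det = 1; rw [hMb, Matrix.det_fin_two_of]; ring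
    | one => rw [map_one, Matrix.det_one]
    | mul z z' _ _ h1 h2 => rw [map_mul, Matrix.det_mul, h1, h2, mul_one]
    | inv z _ h1 =>
      have : (F z).det * (F z⁻¹).det = 1 := by
        rw [← Matrix.det_mul, ← map_mul, mul_inv_cancel, map_one, Matrix.det_one]
      rwa [h1, one_mul] at this
  let f : X →* SL(2, ZMod p) :=
    MonoidHom.mk' (fun g => ⟨F g, hdet g⟩) fun g g' => Subtype.ext (map_mul F g g')
  refine ⟨MulEquiv.ofBijective f ⟨?_, ?_⟩⟩
  · rw [injective_iff_map_eq_one]
    intro g hg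
    have hM : M g = 1 := congrArg Subtype.val hg
    refine Subtype.ext (mem_bot.1 ?_)
    rw [← hl.pair_faithful h hx hxA]
    refine ⟨g.2, fun z hz => ?_⟩
    obtain ⟨w, rfl⟩ := hιW z hz
    have := hact g w
    rw [hM, Matrix.one_mulVec, eq_mul_inv_iff_mul_eq] at this
    exact this
  · rw [← MonoidHom.range_eq_top]
    refine Classical.sl_eq_top_of_transvection _ fun i j hij c => ?_
    have hpa : ∀ n : ℕ, M (a' ^ n) = !![1, (n : ZMod p); 0, 1] := by
      intro n
      induction n with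
      | zero => simp [hone, Matrix.one_fin_two]
      | succ n ih => rw [pow_succ, hmul, ih, hMa]; simp [Matrix.mul_fin_two, add_comm]
    have hpb : ∀ n : ℕ, M (b' ^ n) = !![1, 0; (n : ZMod p) * t, 1] := by
      intro n
      induction n with
      | zero => simp [hone, Matrix.one_fin_two]
      | succ n ih => rw [pow_succ, hmul, ih, hMb]; simp [Matrix.mul_fin_two]; ring
    fin_cases i <;> fin_cases j <;> first | exact absurd rfl hij | skip
    · refine ⟨a' ^ c.val, Subtype.ext ((hpa _).trans ?_)⟩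
      ext r s
      fin_cases r <;> fin_cases s <;> simp [Matrix.SpecialLinearGroup.transvection_coe]
    · refine ⟨b' ^ (c / (t : ZMod p)).val, Subtype.ext ((hpb _).trans ?_)⟩
      ext r s
      fin_cases r <;> fin_cases s <;>
        simp [Matrix.SpecialLinearGroup.transvection_coe, div_mul_cancel₀ _ htne]

theorem commutator_mem {g g' : G} (hg : g ∈ blk p H A) (hg' : g' ∈ blk p H A) :
    ⁅g, g'⁆ ∈ ⁅core p H, A⁆ := by
  set R := ⁅core p H, A⁆ with hR
  have hAR : A ≤ normalizer (R : Set G) := normalizer_commutator_ge_right (core p H) A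
  rw [blk, ← hR, ← SetLike.mem_coe, coe_mul_of_right_le_normalizer_left _ _ hAR] at hg hg'
  obtain ⟨r, hr, a, ha, rfl⟩ := hg
  obtain ⟨r', hr', a', ha', rfl⟩ := hg'
  have hc : a' * a⁻¹ = a⁻¹ * a' :=
    (show Commute a' a from mem_centralizer_iff.1 ((Thompson.ea_iff.1 hl.ea).1 ha) a' ha').inv_right.eq
  have he : ⁅r * a, r' * a'⁆ = r * (a * r' * a⁻¹) * (a' * r⁻¹ * a'⁻¹) * r'⁻¹ := by
    calc ⁅r * a, r' * a'⁆ = r * a * r' * (a' * a⁻¹) * r⁻¹ * a'⁻¹ * r'⁻¹ := by
          rw [commutatorElement_def]; group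
      _ = _ := by rw [hc]; group
  show ⁅r * a, r' * a'⁆ ∈ R
  rw [he]
  exact mul_mem (mul_mem (mul_mem hr ((mem_normalizer_iff.1 (hAR ha) _).1 hr'))
    ((mem_normalizer_iff.1 (hAR ha') _).1 (inv_mem hr))) (inv_mem hr')

theorem eq_two_or_three : p = 2 ∨ p = 3 := by
  obtain ⟨f⟩ := hl.exists_iso h
  by_cases h2 : p = 2
  · exact Or.inl h2
  right
  have h20 : (2 : ZMod p) ≠ 0 := by
    intro h0
    have : ((2 : ℕ) : ZMod p) = 0 := by simpa using h0
    rw [ZMod.natCast_eq_zero_iff] at this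
    exact h2 ((Nat.prime_dvd_prime_iff_eq Fact.out Nat.prime_two).1 this)
  obtain ⟨d, hd⟩ : ∃ d : SL(2, ZMod p),
      (d : Matrix (Fin 2) (Fin 2) (ZMod p)) = !![2, 0; 0, 2⁻¹] :=
    ⟨⟨!![2, 0; 0, 2⁻¹], by simp [Matrix.det_fin_two_of, h20]⟩, rfl⟩
  obtain ⟨T, hT⟩ : ∃ T : SL(2, ZMod p),
      (T : Matrix (Fin 2) (Fin 2) (ZMod p)) = !![1, 1; 0, 1] :=
    ⟨⟨!![1, 1; 0, 1], by simp [Matrix.det_fin_two_of]⟩, rfl⟩
  have hmem := hl.commutator_mem h (f.symm d).2 (f.symm T).2
  set g := ⁅f.symm d, f.symm T⁆ with hg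
  have hgQ : (g : G) ∈ core p H := commutator_core_le hl.le hmem
  have hfg : f g = ⁅d, T⁆ := by simp [hg, map_commutatorElement]
  have hdT : ((⁅d, T⁆ : SL(2, ZMod p)) : Matrix (Fin 2) (Fin 2) (ZMod p)) = !![1, 3; 0, 1] := by
    simp only [commutatorElement_def, Matrix.SpecialLinearGroup.coe_mul,
      Matrix.SpecialLinearGroup.coe_inv, hd, hT, Matrix.adjugate_fin_two_of]
    simp [Matrix.mul_fin_two, mul_inv_cancel₀ h20, inv_mul_cancel₀ h20]
    norm_num
  have hpow : ∀ n : ℕ, (!![1, 3; 0, 1] : Matrix (Fin 2) (Fin 2) (ZMod p)) ^ n =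
      !![1, (n : ZMod p) * 3; 0, 1] := by
    intro n
    induction n with
    | zero => simp [Matrix.one_fin_two]
    | succ n ih => rw [pow_succ, ih]; simp [Matrix.mul_fin_two]; ring
  have hgp : g ^ p = 1 := by
    apply f.injective
    rw [map_pow, hfg, map_one]
    apply Subtype.ext
    rw [Matrix.SpecialLinearGroup.coe_pow, hdT, hpow]
    simp [Matrix.one_fin_two]
  have hg1 : g = 1 := by
    refine Subtype.ext ?_
    have h1 : (g : G) ^ p = 1 := by simpa using congrArg Subtype.val hgp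
    have hd1 : orderOf (g : G) ∣ Nat.card (core p H) :=
      (Nat.card_zpowers (g : G)) ▸ card_dvd_of_le (zpowers_le.2 hgQ)
    exact orderOf_eq_one_iff.1 (Nat.eq_one_of_dvd_coprimes (FF.coprime_core (H := H)) hd1
      (orderOf_dvd_of_pow_eq_one h1))
  rw [hg1, map_one] at hfg
  have h30 := congrArg (fun m : SL(2, ZMod p) => (m : Matrix (Fin 2) (Fin 2) (ZMod p)) 0 1) hfg
  rw [hdT] at h30
  have h3 : ((3 : ℕ) : ZMod p) = 0 := by simpa [eq_comm] using h30
  rw [ZMod.natCast_eq_zero_iff] at h3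
  exact (Nat.prime_dvd_prime_iff_eq Fact.out Nat.prime_three).1 h3

theorem card_commutator_core : Nat.card (⁅core p H, A⁆ : Subgroup G) = p ^ 2 - 1 := by
  obtain ⟨f⟩ := hl.exists_iso h
  have hc := S0606.card_sup_mul_card_inf_of_le_normalizer
    (normalizer_commutator_ge_right (core p H) A)
  have hd : A ⊓ ⁅core p H, A⁆ = ⊥ := by
    rw [← le_bot_iff, ← FF.inf_core_eq_bot (H := H) (Thompson.ea_isPGroup hl.ea)]
    exact inf_le_inf_left _ (commutator_core_le hl.le)
  rw [hd, card_bot, mul_one, sup_comm, Nat.card_congr f.toEquiv, hl.card_eq,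
    Classical.card_sl2 (F := ZMod p), ZMod.card] at hc
  exact (Nat.eq_of_mul_eq_mul_left (Fact.out : p.Prime).pos hc).symm

theorem not_comm (h3 : p = 3) : ¬ IsMulCommutative (⁅core p H, A⁆ : Subgroup G) := by
  intro hcomm
  obtain ⟨f⟩ := hl.exists_iso h
  have hR := hl.card_commutator_core h
  subst h3
  set R := ⁅core 3 H, A⁆ with hRdef
  have hX : blk 3 H A ≤ normalizer (R : Set G) :=
    sup_le le_normalizer (normalizer_commutator_ge_right (core 3 H) A)
  have hXc : Nat.card (blk 3 H A : Subgroup G) = 24 := by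
    rw [Nat.card_congr f.toEquiv, Classical.card_sl2 (F := ZMod 3), ZMod.card]
    norm_num
  have key : ∀ m : SL(2, ZMod 3), m ^ 4 = 1 → (f.symm m : G) ∈ R := by
    intro m hm
    set g := (f.symm m : G) with hg
    have hgX : g ∈ blk 3 H A := (f.symm m).2
    have ho : Nat.card (zpowers g) ∣ 4 := by
      rw [Nat.card_zpowers]
      refine orderOf_dvd_of_pow_eq_one ?_
      rw [hg, ← Subgroup.coe_pow, ← map_pow, hm, map_one, Subgroup.coe_one]
    have hs := S0606.card_sup_mul_card_inf_of_le_normalizer ((zpowers_le.2 hgX).trans hX)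
    have h32 : Nat.card (zpowers g ⊔ R : Subgroup G) ∣ 32 := by
      refine (Dvd.intro _ hs).trans ?_
      rw [hR]
      exact (mul_dvd_mul_right ho 8)
    have h24 : Nat.card (zpowers g ⊔ R : Subgroup G) ∣ 24 :=
      hXc ▸ card_dvd_of_le (sup_le (zpowers_le.2 hgX) le_sup_left)
    have h8 := Nat.dvd_gcd h24 h32
    have heq : R = zpowers g ⊔ R := eq_of_le_of_card_ge le_sup_right (by
      rw [hR]; exact Nat.le_of_dvd (by norm_num) h8)
    exact heq.ge (mem_sup_left (mem_zpowers g))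
  obtain ⟨M₁, M₂, hM₁, hM₂, hne⟩ := exists_noncommuting
  have h1 := key M₁ hM₁
  have h2 := key M₂ hM₂
  have hc := congrArg Subtype.val (hcomm.is_comm.comm ⟨_, h1⟩ ⟨_, h2⟩)
  have hc' : f.symm M₁ * f.symm M₂ = f.symm M₂ * f.symm M₁ := Subtype.ext hc
  rw [← map_mul, ← map_mul] at hc'
  exact hne (f.symm.injective hc')

end IsLine

end Cfsg.Agent.Offender
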